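import Cfsg.Agent.Lib.Recog.Phan.Extend

/-!
# The field with four elements and the Fourier matrix
-/

set_option autoImplicit false

namespace CfsgLib.Phan

open CfsgLib.Classical CfsgLib.Classical.Herm CfsgLib.Known.SUBounded

universe u

variable {F : Type u} [Field F] [Fintype F] (hF : Fintype.card F = 2 ^ 2)
include hF

theorem two_eq_zero_four : (2 : F) = 0 := by
  obtain ⟨p, hp⟩ := CharP.exists F
  have := hp
  obtain ⟨k, hpp, hk⟩ := FiniteField.card F p
  have hd : p ∣ 2 ^ 2 := by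
    rw [show (2 : ℕ) ^ 2 = Fintype.card F by rw [hF], hk]
    exact dvd_pow_self p k.ne_zero
  have hp2 : p = 2 := (Nat.prime_dvd_prime_iff_eq hpp Nat.prime_two).1 (hpp.dvd_of_dvd_pow hd)
  subst hp2
  exact_mod_cast CharP.cast_eq_zero F 2

theorem cube_eq_one {a : F} (ha : a ≠ 0) : a ^ 3 = 1 := by
  have := FiniteField.pow_card_sub_one_eq_one a ha
  rwa [hF] at this

theorem norm_one {a : F} (ha : a ≠ 0) : a * a ^ 2 = 1 := by
  rw [← cube_eq_one hF ha]; ring

theorem exists_omega : ∃ w : F, w * w + w + 1 = 0 := by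
  classical
  obtain ⟨w, -, hw⟩ := Finset.exists_mem_notMem_of_card_lt_card (s := ({0, 1} : Finset F)) (t := Finset.univ) (by
    rw [Finset.card_univ, hF]
    have : ({0, 1} : Finset F).card ≤ 2 := Finset.card_le_two
    omega)
  simp only [Finset.mem_insert, Finset.mem_singleton, not_or] at hw
  refine ⟨w, (mul_eq_zero.1 (show (w - 1) * (w * w + w + 1) = 0 from ?_)).resolve_left (sub_ne_zero.2 hw.2)⟩
  linear_combination cube_eq_one hF hw.1

/-- the Fourier matrix with a given root of unity -/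
theorem exists_fourier {w : F} (hw : w * w + w + 1 = 0) :
    ∃ x : Cfsg.SU 3 F 2, x.1.1 = !![1, 1, 1; 1, w, w * w; 1, w * w, w] := by
  have h2 := two_eq_zero_four hF
  have h3 : w ^ 3 = 1 := by linear_combination (w - 1) * hw
  refine ⟨⟨⟨_, ?_⟩, ?_⟩, rfl⟩
  · rw [Matrix.det_fin_three]
    simp
    linear_combination hw - w * h3 + (w * w - 2 * w - 1) * h2
  · intro u v
    show Cfsg.hermForm 3 F 2 ((!![1, 1, 1; 1, w, w * w; 1, w * w, w] : Matrix (Fin 3) (Fin 3) F).mulVec u)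
      ((!![1, 1, 1; 1, w, w * w; 1, w * w, w] : Matrix (Fin 3) (Fin 3) F).mulVec v) = _
    simp [Cfsg.hermForm, Matrix.mulVec, dotProduct, Fin.sum_univ_three]
    obtain ⟨a, ha⟩ : ∃ a, a = u 0 * v 0 ^ 2 + u 1 * v 1 ^ 2 + u 2 * v 2 ^ 2 := ⟨_, rfl⟩
    rw [← ha]
    grind

end CfsgLib.Phan
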