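import Cfsg.Agent.Lib.Recog.Phan.Two.Nml
import Cfsg.Agent.Lib.Recog.Phan.Delta
import Cfsg.Agent.Lib.Classical.Unitary.MatrixStructure

/-!
# `SU 3` inside `SU 4` over four elements
-/

set_option autoImplicit false

namespace CfsgLib.Phan

open CfsgLib.Classical CfsgLib.Classical.Herm CfsgLib.Known.SUBounded

universe u v

variable {F : Type u} [Field F] [Fintype F] (hF : Fintype.card F = 2 ^ 2)
include hF

omit hF in
theorem blk3_zero_val (x : Cfsg.SU 3 F 2) : (blkAt 0 (show 0 + 3 ≤ 4 by omega) x).1.1 =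
    !![x.1.1 0 0, x.1.1 0 1, x.1.1 0 2, 0; x.1.1 1 0, x.1.1 1 1, x.1.1 1 2, 0;
       x.1.1 2 0, x.1.1 2 1, x.1.1 2 2, 0; 0, 0, 0, 1] := by
  have hp : (pm (sh 0 (show 0 + 3 ≤ 4 by omega)) : Matrix (Fin 4) (Fin 3) F) =
      !![1, 0, 0; 0, 1, 0; 0, 0, 1; 0, 0, 0] := by
    ext i j
    fin_cases i <;> fin_cases j <;> rfl
  show blkMat _ x.1.1 = _
  rw [blkMat, hp]
  ext i j
  fin_cases i <;> fin_cases j <;>
    simp [Matrix.vecMul, dotProduct, Matrix.mul_apply, Fin.sum_univ_three, Matrix.one_apply]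

omit hF in
theorem blk3_one_val (x : Cfsg.SU 3 F 2) : (blkAt 1 (show 1 + 3 ≤ 4 by omega) x).1.1 =
    !![1, 0, 0, 0; 0, x.1.1 0 0, x.1.1 0 1, x.1.1 0 2; 0, x.1.1 1 0, x.1.1 1 1, x.1.1 1 2;
       0, x.1.1 2 0, x.1.1 2 1, x.1.1 2 2] := by
  have hp : (pm (sh 1 (show 1 + 3 ≤ 4 by omega)) : Matrix (Fin 4) (Fin 3) F) =
      !![0, 0, 0; 1, 0, 0; 0, 1, 0; 0, 0, 1] := by
    ext i j
    fin_cases i <;> fin_cases j <;> rfl
  show blkMat _ x.1.1 = _
  rw [blkMat, hp]
  ext i j
  fin_cases i <;> fin_cases j <;>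
    simp [Matrix.vecMul, dotProduct, Matrix.mul_apply, Fin.sum_univ_three, Matrix.one_apply]

theorem exists_cyc_four : ∃ C : Cfsg.SU 4 F 2,
    C.1.1 = !![0, 0, 0, 1; 1, 0, 0, 0; 0, 1, 0, 0; 0, 0, 1, 0] := by
  refine ⟨⟨⟨_, ?_⟩, ?_⟩, rfl⟩
  · simp [Matrix.det_succ_row_zero, Fin.sum_univ_succ, Fin.succAbove]
    linear_combination -(two_eq_zero_four hF)
  · intro u v
    show Cfsg.hermForm 4 F 2 ((!![0, 0, 0, 1; 1, 0, 0, 0; 0, 1, 0, 0; 0, 0, 1, 0] :
      Matrix (Fin 4) (Fin 4) F).mulVec u) ((!![0, 0, 0, 1; 1, 0, 0, 0; 0, 1, 0, 0; 0, 0, 1, 0] :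
      Matrix (Fin 4) (Fin 4) F).mulVec v) = _
    simp [Cfsg.hermForm, Matrix.mulVec, dotProduct, Fin.sum_univ_four]
    ring

/-- elements fixing the last vector lie in the first block -/
theorem exists_low {x : Cfsg.SU 4 F 2} (h : act x (std 3) = std 3) :
    ∃ y : Cfsg.SU 3 F 2, blkAt 0 (show 0 + 3 ≤ 4 by omega) y = x := by
  obtain ⟨C, hC⟩ := exists_cyc_four hF
  have h3 : act C (std 3) = std 0 := by
    funext i
    fin_cases i <;> simp [act, hC, std, Matrix.mulVec_single]
  obtain ⟨y, hy⟩ := exists_emb hF (k := 3) (g := C * x * C⁻¹) (by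
    rw [act_mul, act_mul, act_inv_eq h3, h, h3])
  refine ⟨y, ?_⟩
  have e : C * blkAt 0 (show 0 + 3 ≤ 4 by omega) y = emb 3 y * C := by
    refine Subtype.ext (Subtype.ext ?_)
    show C.1.1 * (blkAt 0 _ y).1.1 = (emb 3 y).1.1 * C.1.1
    rw [emb_eq, blk3_zero_val, blk3_one_val, hC]
    ext i j
    fin_cases i <;> fin_cases j <;> simp [Matrix.mul_apply, Fin.sum_univ_four]
  rw [hy, inv_mul_cancel_right] at e
  exact mul_left_cancel e

/-- a faithful image of `SU 3` fixes a unit vector -/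
theorem exists_fixed_unit (Φ : Cfsg.SU 3 F 2 →* Cfsg.SU 4 F 2) (hΦ : Function.Injective Φ) :
    ∃ e : Fin 4 → F, hermStd 4 hF e e = 1 ∧ ∀ x, act (Φ x) e = e := by
  classical
  have hB := hermStd_isHerm (n := 4) hF
  have h2 := two_eq_zero_four hF
  obtain ⟨Z, hZ⟩ : ∃ Z, Z = Φ (zz hF) := ⟨_, rfl⟩
  let X : Module.End F (Fin 4 → F) := Matrix.toLin' Z.1.1
  have hX : ∀ v, X v = act Z v := fun v => Matrix.toLin'_apply Z.1.1 v
  have hcomm : ∀ x v, act (Φ x) (act Z v) = act Z (act (Φ x) v) := fun x v => by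
    rw [← act_mul, ← act_mul, hZ, ← map_mul, ← map_mul, zz_comm]
  have hsmul : ∀ (k : Cfsg.SU 4 F 2) (c : F) (v : Fin 4 → F), act k (c • v) = c • act k v :=
    fun k c v => Matrix.mulVec_smul k.1.1 c v
  have hadd : ∀ (k : Cfsg.SU 4 F 2) (v w : Fin 4 → F), act k (v + w) = act k v + act k w :=
    fun k v w => Matrix.mulVec_add k.1.1 v w
  let V : F → Submodule F (Fin 4 → F) := fun c => Module.End.eigenspace X c
  have hV : ∀ c v, v ∈ V c ↔ act Z v = c • v := fun c v => by
    rw [Module.End.mem_eigenspace_iff, hX]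
  -- the dimensions of the proper eigenspaces are divisible by three
  have hdim : ∀ c : F, c ≠ 0 → c ^ Module.finrank F (V c) = 1 := by
    intro c hc
    let L : Cfsg.SU 3 F 2 → Module.End F (V c) := fun x =>
      (Matrix.toLin' (Φ x).1.1).restrict (p := V c) (q := V c) fun v hv => by
        rw [hV] at hv ⊢
        show act Z (Matrix.toLin' (Φ x).1.1 v) = c • Matrix.toLin' (Φ x).1.1 v
        rw [Matrix.toLin'_apply]
        show act Z (act (Φ x) v) = c • act (Φ x) v
        rw [← hcomm, hv, hsmul]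
    have hL : ∀ x (v : V c), (L x v : Fin 4 → F) = act (Φ x) v := fun x v => by
      show Matrix.toLin' (Φ x).1.1 v.1 = _
      rw [Matrix.toLin'_apply]
      rfl
    let χ : Cfsg.SU 3 F 2 →* F :=
      { toFun := fun x => LinearMap.det (L x)
        map_one' := by
          rw [show L 1 = LinearMap.id from LinearMap.ext fun v => Subtype.ext (by
            rw [hL, map_one, act_one]; rfl), LinearMap.det_id]
        map_mul' := fun x y => by
          rw [show L (x * y) = L x * L y from LinearMap.ext fun v => Subtype.ext (by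
            rw [Module.End.mul_apply, hL, hL, hL, map_mul, act_mul]), map_mul] }
    have hz : L (zz hF) = c • LinearMap.id := LinearMap.ext fun v => Subtype.ext (by
      rw [hL, ← hZ, (hV c v).1 v.2]; rfl)
    have := hom_four_one hF χ (zz hF)
    change LinearMap.det (L (zz hF)) = 1 at this
    rwa [hz, LinearMap.det_smul, LinearMap.det_id, mul_one] at this
  have hw := om_ne hF
  have hw2 : om hF * om hF ≠ 0 := mul_ne_zero hw hw
  have hdiv : ∀ c : F, c ≠ 0 → c ≠ 1 → Module.finrank F (V c) % 3 = 0 := fun c hc hc1 => by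
    have h := hdim c hc
    have h3 := cube_eq_one hF hc
    rw [← Nat.div_add_mod (Module.finrank F (V c)) 3, pow_add, pow_mul, h3, one_pow, one_mul] at h
    have := Nat.mod_lt (Module.finrank F (V c)) (show 3 > 0 by norm_num)
    rcases hm : Module.finrank F (V c) % 3 with _ | _ | _ | j
    · rfl
    · rw [hm, pow_one] at h; exact absurd h hc1
    · rw [hm, pow_two] at h; exact absurd (show c = 1 by linear_combination h3 - c * h) hc1
    · omega
  -- the projections
  have hZ3 : ∀ v, act Z (act Z (act Z v)) = v := fun v => by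
    rw [← act_mul, ← act_mul, hZ, ← map_mul, ← map_mul, show zz hF * zz hF * zz hF = 1 from ext3 hF (by
      show (zz hF).1.1 * (zz hF).1.1 * (zz hF).1.1 = _
      rw [zz, diag3_val]
      have h3 := om_norm hF
      ext i j
      fin_cases i <;> fin_cases j <;> simp <;> grind), map_one, act_one]
  let proj : F → (Fin 4 → F) → (Fin 4 → F) := fun c v =>
    v + (c * c) • act Z v + c • act Z (act Z v)
  have hproj : ∀ c, c ≠ 0 → ∀ v, proj c v ∈ V c := fun c hc v => by
    rw [hV]
    simp only [proj, hadd, hsmul, hZ3, smul_add, smul_smul]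
    have h3 := cube_eq_one hF hc
    rw [show c * (c * c) = 1 by linear_combination h3, one_smul]
    abel
  have hsum : ∀ v, proj 1 v + proj (om hF) v + proj (om hF * om hF) v = v := fun v => by
    funext i
    simp only [proj, Pi.add_apply, Pi.smul_apply, smul_eq_mul]
    have hw := om_eq hF
    grind
  have hdisj : ∀ c c' : F, c ≠ c' → Module.finrank F (V c) + Module.finrank F (V c') ≤ 4 := fun c c' h => by
    have hd : Disjoint (V c) (V c') := by
      rw [Submodule.disjoint_def]
      intro v h1 h2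
      rw [hV] at h1 h2
      have : (c - c') • v = 0 := by rw [sub_smul, ← h1, ← h2, sub_self]
      exact (smul_eq_zero.1 this).resolve_left (sub_ne_zero.2 h)
    have e := Submodule.finrank_sup_add_finrank_inf_eq (V c) (V c')
    rw [hd.eq_bot, finrank_bot, add_zero] at e
    have := Submodule.finrank_le (V c ⊔ V c')
    rw [Module.finrank_fin_fun] at this
    omega
  have hzero : ∀ c, Module.finrank F (V c) = 0 → ∀ v ∈ V c, v = 0 := fun c h v hv => by
    rw [Submodule.finrank_eq_zero] at h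
    rw [h] at hv
    exact hv
  have hwne : om hF ≠ om hF * om hF := fun h =>
    om_ne_one hF (mul_left_cancel₀ hw (show om hF * om hF = om hF * 1 by rw [mul_one, ← h]))
  -- some proper eigenvalue has a three-dimensional space
  obtain ⟨c, c', hc0, hc1, hc'0, hc'1, hcc, hc3, hc'3, hdec⟩ :
      ∃ c c' : F, c ≠ 0 ∧ c ≠ 1 ∧ c' ≠ 0 ∧ c' ≠ 1 ∧ c ≠ c' ∧ Module.finrank F (V c) = 3 ∧
        Module.finrank F (V c') = 0 ∧ ∀ v, proj 1 v + proj c v + proj c' v = v := by
    have d1 := hdiv _ hw (om_ne_one hF)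
    have d2 := hdiv _ hw2 (om_sq_ne_one hF)
    have d12 := hdisj _ _ hwne
    by_cases h : Module.finrank F (V (om hF)) = 0
    · have hne : Module.finrank F (V (om hF * om hF)) ≠ 0 := by
        intro h'
        refine absurd (hΦ (show Φ (zz hF) = Φ 1 from ?_)) ?_
        · rw [map_one, ← hZ]
          refine SU_ext fun v => ?_
          rw [act_one]
          have e := hsum v
          rw [hzero _ h _ (hproj _ hw v), hzero _ h' _ (hproj _ hw2 v), add_zero, add_zero] at e
          have := (hV 1 _).1 (hproj 1 one_ne_zero v)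
          rwa [e, one_smul] at this
        · intro e
          have := congrArg (fun k : Cfsg.SU 3 F 2 => k.1.1 0 0) e
          simp [zz, diag3_val] at this
          exact om_ne_one hF this
      refine ⟨_, _, hw2, om_sq_ne_one hF, hw, om_ne_one hF, hwne.symm, by omega, h, fun v => ?_⟩
      rw [add_right_comm]; exact hsum v
    · exact ⟨_, _, hw, om_ne_one hF, hw2, om_sq_ne_one hF, hwne, by omega, by omega, hsum⟩
  -- the fixed line
  have hdec' : ∀ v, proj 1 v + proj c v = v := fun v => by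
    have := hdec v
    rwa [hzero _ hc'3 _ (hproj _ hc'0 v), add_zero] at this
  obtain ⟨e, he, he0⟩ : ∃ e ∈ V 1, e ≠ 0 := by
    by_contra hcon
    push Not at hcon
    have htop : V c = ⊤ := eq_top_iff.2 fun v _ => by
      have := hdec' v
      rw [hcon _ (hproj 1 one_ne_zero v), zero_add] at this
      rw [← this]; exact hproj c hc0 v
    rw [htop, finrank_top, Module.finrank_fin_fun] at hc3
    omega
  have h1dim : ∀ u ∈ V 1, ∃ k : F, u = k • e := by
    intro u hu
    have hle := hdisj 1 c (Ne.symm hc1)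
    have hspan : Submodule.span F {e} = V 1 := by
      refine Submodule.eq_of_le_of_finrank_le ((Submodule.span_singleton_le_iff_mem _ _).2 he) ?_
      rw [finrank_span_singleton he0]
      omega
    rw [← hspan, Submodule.mem_span_singleton] at hu
    obtain ⟨k, hk⟩ := hu
    exact ⟨k, hk.symm⟩
  have horth : ∀ u ∈ V c, hermStd 4 hF e u = 0 := fun u hu => by
    rw [hV] at hu
    have e1 := act_form hF Z e u
    rw [(hV 1 e).1 he, one_smul, hu, Herm.smul_right] at e1
    exact (mul_eq_zero.1 (show (c - 1) * hermStd 4 hF e u = 0 by linear_combination e1)).resolve_left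
      (sub_ne_zero.2 hc1)
  have hee : hermStd 4 hF e e ≠ 0 := fun h => he0 (hB.nondeg _ fun v => by
    obtain ⟨k, hk⟩ := h1dim _ (hproj 1 one_ne_zero v)
    rw [← hdec' v, map_add, hk, Herm.smul_right, h, mul_zero, zero_add, horth _ (hproj c hc0 v)])
  obtain ⟨κ, hκ0, hκ⟩ := hB.scale_to hee (map_one _) one_ne_zero
  have hinv : ∀ x, ∃ k : F, act (Φ x) e = k • e := fun x => h1dim _ ((hV 1 _).2 (by
    rw [← hcomm, (hV 1 e).1 he, one_smul, one_smul]))
  choose k hk using hinv
  let χ : Cfsg.SU 3 F 2 →* F :=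
    { toFun := k
      map_one' := by
        have h := hk 1
        rw [map_one, act_one] at h
        by_contra hne
        refine he0 ((smul_eq_zero.1 (show (1 - k 1) • e = 0 by rw [sub_smul, one_smul, ← h, sub_self])).resolve_left
          (sub_ne_zero.2 (Ne.symm hne)))
      map_mul' := fun x y => by
        have h := hk (x * y)
        rw [map_mul, act_mul, hk, hsmul, hk, smul_smul] at h
        by_contra hne
        refine he0 ((smul_eq_zero.1 (show (k y * k x - k (x * y)) • e = 0 by rw [sub_smul, ← h, sub_self])).resolve_left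
          (sub_ne_zero.2 fun e' => hne (by rw [← e', mul_comm]))) }
  refine ⟨κ • e, hκ, fun x => ?_⟩
  rw [hsmul, hk, show k x = 1 from hom_four_one hF χ x, one_smul]

/-- a faithful image of `SU 3` is a point stabiliser -/
theorem exists_std_four (Φ : Cfsg.SU 3 F 2 →* Cfsg.SU 4 F 2) (hΦ : Function.Injective Φ) :
    ∃ (P : Cfsg.SU 4 F 2) (A : Cfsg.SU 3 F 2 →* Cfsg.SU 3 F 2), Function.Injective A ∧
      ∀ x, Φ x = P * blkAt 0 (show 0 + 3 ≤ 4 by omega) (A x) * P⁻¹ := by
  obtain ⟨e, he, hfix⟩ := exists_fixed_unit hF Φ hΦ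
  obtain ⟨P, hP⟩ := exists_act_eq hF (n := 4) (k := 1) (by omega) ![std 3] ![e]
    (fun i j => by fin_cases i; fin_cases j; simp [std_orth])
    (fun i j => by fin_cases i; fin_cases j; simp [he])
  have hP3 : act P (std 3) = e := hP 0
  choose A hA using fun x => exists_low hF (x := P⁻¹ * Φ x * P) (by
    rw [act_mul, act_mul, hP3, hfix, act_inv_eq hP3])
  let A' : Cfsg.SU 3 F 2 →* Cfsg.SU 3 F 2 := MonoidHom.mk' A fun x y =>
    blk_injective (F := F) (q := 2) (sh 0 (show 0 + 3 ≤ 4 by omega)) (by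
      show blkAt 0 _ (A (x * y)) = blkAt 0 _ (A x * A y)
      rw [map_mul (blkAt 0 _), hA, hA, hA, map_mul]
      group)
  refine ⟨P, A', fun x y h => hΦ ?_, fun x => ?_⟩
  · have h' : blkAt 0 (show 0 + 3 ≤ 4 by omega) (A x) = blkAt 0 (show 0 + 3 ≤ 4 by omega) (A y) := congrArg _ h
    rw [hA, hA] at h'
    exact mul_left_cancel (mul_right_cancel h')
  · show Φ x = P * blkAt 0 _ (A x) * P⁻¹
    rw [hA]; group

/-- the centre is trivial -/
theorem center_four {z : Cfsg.SU 4 F 2} (hz : z ∈ Subgroup.center (Cfsg.SU 4 F 2)) : z = 1 := by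
  obtain ⟨M, hM⟩ : ∃ M, M = z.1.1 := ⟨_, rfl⟩
  have key : ∀ y : Cfsg.SU 4 F 2, y.1.1 * M = M * y.1.1 := fun y => by
    rw [hM]
    exact congrArg (fun k : Cfsg.SU 4 F 2 => k.1.1) (Subgroup.mem_center_iff.1 hz y)
  have ez := key (blkAt 0 (show 0 + 3 ≤ 4 by omega) (zz hF))
  have ed := key (blkAt 0 (show 0 + 3 ≤ 4 by omega) (dd hF))
  have ec := key (blkAt 0 (show 0 + 3 ≤ 4 by omega) (cyc F 2))
  have ec1 := key (blkAt 1 (show 1 + 3 ≤ 4 by omega) (cyc F 2))
  rw [blk3_zero_val, zz, diag3_val] at ez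
  rw [blk3_zero_val, dd, diag3_val] at ed
  rw [blk3_zero_val] at ec
  rw [blk3_one_val] at ec1
  have hw := om_eq hF
  have h1 := om_ne_one hF
  have h2 := two_eq_zero_four hF
  have fz := fun i j => congrFun (congrFun ez i) j
  have fd := fun i j => congrFun (congrFun ed i) j
  have fc := fun i j => congrFun (congrFun ec i) j
  have fc1 := fun i j => congrFun (congrFun ec1 i) j
  have z03 := fz 0 3
  have z13 := fz 1 3
  have z23 := fz 2 3
  have z30 := fz 3 0
  have z31 := fz 3 1
  have z32 := fz 3 2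
  have d01 := fd 0 1
  have d02 := fd 0 2
  have d10 := fd 1 0
  have d12 := fd 1 2
  have d20 := fd 2 0
  have d21 := fd 2 1
  have c00 := fc 1 0
  have c11 := fc 2 1
  have e11 := fc1 2 1
  have e22 := fc1 3 2
  simp [cyc, Matrix.mul_apply, Fin.sum_univ_four] at z03 z13 z23 z30 z31 z32 d01 d02 d10 d12 d20 d21 c00 c11 e11 e22
  have off : ∀ {c x : F}, c ≠ 1 → c * x = x → x = 0 := fun {c x} hc h =>
    (mul_eq_zero.1 (show (c - 1) * x = 0 by linear_combination h)).resolve_left (sub_ne_zero.2 hc)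
  have hdet := z.1.2
  rw [← hM] at hdet
  have hMd : M = M 0 0 • 1 := by
    ext i j
    fin_cases i <;> fin_cases j <;> simp <;> grind
  have h4 : M 0 0 ^ 4 = 1 := by
    rw [hMd, Matrix.det_smul, Matrix.det_one, mul_one, Fintype.card_fin] at hdet
    exact hdet
  have h0 : M 0 0 ≠ 0 := fun e => by rw [e] at h4; simp at h4
  have h00 : M 0 0 = 1 := by linear_combination h4 - M 0 0 * cube_eq_one hF h0
  refine Subtype.ext (Subtype.ext ?_)
  show z.1.1 = 1
  rw [← hM, hMd, h00, one_smul]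

theorem injective_four {H : Type v} [Group H] (g : Cfsg.SU 4 F 2 →* H)
    (hne : ∃ a b : Cfsg.SU 4 F 2, ¬ Commute (g a) (g b)) : Function.Injective g := by
  refine (injective_iff_map_eq_one g).2 fun z hz => center_four hF ?_
  have := Herm.isSimpleGroup_PSU' hF 4 (by omega) (by omega)
  let π := QuotientGroup.mk' (Subgroup.center (Cfsg.SU 4 F 2))
  have hn : (g.ker.map π).Normal := Subgroup.Normal.map inferInstance π (QuotientGroup.mk'_surjective _)
  rcases hn.eq_bot_or_eq_top with h | h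
  · have : π z ∈ g.ker.map π := ⟨z, hz, rfl⟩
    rw [h, Subgroup.mem_bot] at this
    exact (QuotientGroup.eq_one_iff z).1 this
  · obtain ⟨a, b, hab⟩ := hne
    refine absurd ?_ hab
    obtain ⟨k, hk, hk'⟩ : π a ∈ g.ker.map π := h ▸ Subgroup.mem_top _
    have hz : k⁻¹ * a ∈ Subgroup.center (Cfsg.SU 4 F 2) := QuotientGroup.eq.1 hk'
    have e : g a = g (k⁻¹ * a) := by rw [map_mul, map_inv, MonoidHom.mem_ker.1 hk, inv_one, one_mul]
    rw [e]
    exact (show Commute (k⁻¹ * a) b from (Subgroup.mem_center_iff.1 hz b).symm).map g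

end CfsgLib.Phan
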