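import Cfsg.Agent.Lib.Recog.Phan.Two.Base

/-!
# Orthogonal vectors over the field with four elements
-/

set_option autoImplicit false

namespace CfsgLib.Phan

open CfsgLib.Classical CfsgLib.Classical.Herm CfsgLib.Known.SUBounded

universe u

variable {F : Type u} [Field F] [Fintype F] (hF : Fintype.card F = 2 ^ 2)
include hF

/-- pairs with a known closing element -/
def Good2 {n : ℕ} (x y : Sphere (hermStd n hF)) : Prop :=
  hermStd n hF x.1 y.1 = 0 ∨ (hermStd n hF x.1 y.1 = 1 ∧ x ≠ y)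

theorem good2_symm {n : ℕ} {x y : Sphere (hermStd n hF)} (hg : Good2 hF x y) : Good2 hF y x := by
  have h := hermStd_isHerm (n := n) hF
  rcases hg with hg | ⟨hg, hne⟩
  · exact Or.inl (h.eq_zero_symm hg)
  · exact Or.inr ⟨by rw [← h.symm x.1 y.1, hg, map_one], hne.symm⟩

theorem norm_one' {a : F} (ha : a ≠ 0) : a * powHom hF a = 1 := by
  rw [powHom_apply]; exact norm_one hF ha

/-- short closed walks decompose -/
theorem same_two {n : ℕ} (h5 : 5 ≤ n) (u v a b : Sphere (hermStd n hF)) (hg : ¬ Good2 hF u v)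
    (h1 : Orth (hermStd n hF) u a) (h2 : Orth (hermStd n hF) a v) (h3 : Orth (hermStd n hF) u b)
    (h4 : Orth (hermStd n hF) b v) : Same (Orth (hermStd n hF)) (Good2 hF) u v a b := by
  have h := hermStd_isHerm (n := n) hF
  have hr : 5 ≤ Module.finrank F (Fin n → F) := by rw [finrank_std]; exact h5
  obtain ⟨u, hu⟩ := u
  obtain ⟨v, hv⟩ := v
  obtain ⟨a, ha⟩ := a
  obtain ⟨b, hb⟩ := b
  simp only [Orth] at h1 h2 h3 h4
  have ne1 : ∀ {c : Fin n → F}, hermStd n hF c c = 1 → hermStd n hF c c ≠ 0 := fun hc => hc.symm ▸ one_ne_zero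
  simp only [Good2, not_or, not_and, ne_eq, Subtype.mk.injEq, not_not] at hg
  obtain ⟨hα0, hα1⟩ := hg
  by_cases hprop : ∃ κ : F, v = κ • u
  · obtain ⟨κ, hκ⟩ := hprop
    obtain ⟨c, hc, c1, c2, c3⟩ := perp_three h hr (b := b) (ne1 hu) (ne1 ha) h1
    refine .trans (c := (⟨c, hc⟩ : Sphere (hermStd n hF))) c1 ?_ (.tri c2) (.tri (h.eq_zero_symm c3))
    show hermStd n hF c v = 0
    rw [hκ, smul_right, h.eq_zero_symm c1, mul_zero]
  obtain ⟨α, hα⟩ : ∃ α, α = hermStd n hF u v := ⟨_, rfl⟩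
  rw [← hα] at hα0
  obtain ⟨v', hv'⟩ : ∃ v', v' = α⁻¹ • v := ⟨_, rfl⟩
  have hn : α⁻¹ * powHom hF α⁻¹ = 1 := norm_one' hF (inv_ne_zero hα0)
  have hv1 : hermStd n hF v' v' = 1 := by rw [hv', IsHerm.smul_self, hn, hv, one_mul]
  obtain ⟨c, hc, c1, c2, c3⟩ := perp_three h hr (b := b) (ne1 hv) (ne1 ha) (h.eq_zero_symm h2)
  refine .via (c := (⟨c, hc⟩ : Sphere (hermStd n hF))) (v' := (⟨v', hv1⟩ : Sphere (hermStd n hF))) ?_ ?_ ?_ c2
    (h.eq_zero_symm c3) ?_ (h.eq_zero_symm c1)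
  · show hermStd n hF a v' = 0
    rw [hv', smul_right, h2, mul_zero]
  · show hermStd n hF b v' = 0
    rw [hv', smul_right, h4, mul_zero]
  · refine Or.inr ⟨?_, fun e => ?_⟩
    · show hermStd n hF u v' = 1
      rw [hv', smul_right, ← hα, inv_mul_cancel₀ hα0]
    · refine hprop ⟨α, ?_⟩
      rw [show u = v' from congrArg Subtype.val e, hv', smul_smul, mul_inv_cancel₀ hα0, one_smul]
  · show hermStd n hF c v' = 0
    rw [hv', smul_right, h.eq_zero_symm c1, mul_zero]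

/-- three steps reduce to two -/
theorem step_two {n : ℕ} (h5 : 5 ≤ n) (e c v w : Sphere (hermStd n hF)) (_h1 : Orth (hermStd n hF) e c) :
    Orth (hermStd n hF) c w ∨ ∃ d v', Orth (hermStd n hF) e d ∧ Orth (hermStd n hF) d w ∧
      Orth (hermStd n hF) d v' ∧ Orth (hermStd n hF) c v' ∧ Orth (hermStd n hF) v' w := by
  have h := hermStd_isHerm (n := n) hF
  have hr : 5 ≤ Module.finrank F (Fin n → F) := by rw [finrank_std]; exact h5
  obtain ⟨d, hd, hfd⟩ := exists_perp h ![w.1, e.1] (orth_one (w.2.symm ▸ one_ne_zero)) (fun z hz j => by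
    fin_cases j; exact hz 0) (by omega)
  have hwd : hermStd n hF w.1 d = 0 := hfd 0
  obtain ⟨v', hv', hf⟩ := exists_perp h ![w.1, d, c.1]
    (orth_two h (w.2.symm ▸ one_ne_zero) (hd.symm ▸ one_ne_zero) hwd)
    (fun z hz j => by fin_cases j <;> [exact hz 0; exact hz 1]) (by omega)
  exact Or.inr ⟨⟨d, hd⟩, ⟨v', hv'⟩, hfd 1, h.eq_zero_symm hwd, hf 1, hf 2, h.eq_zero_symm (hf 0)⟩

/-- blocks of three coordinates generate -/
theorem blocks3_top : ∀ (n : ℕ), 3 ≤ n → ∀ H : Subgroup (Cfsg.SU n F 2),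
    (∀ (p : ℕ) (hp : p + 3 ≤ n) (x : Cfsg.SU 3 F 2), blkAt p hp x ∈ H) → H = ⊤ := by
  intro n hn
  induction n, hn using Nat.le_induction with
  | base =>
    intro H hH
    refine eq_top_iff.2 fun x _ => ?_
    have := hH 0 (by omega) x
    rwa [blkAt_zero] at this
  | succ n hn ih =>
    intro H hH
    have hE : H.comap (emb n) = ⊤ := ih _ fun p hp x => by
      rw [Subgroup.mem_comap, emb_comp]; exact hH _ _ x
    refine gen_succ hF hn (t := blkAt 0 (show 0 + 3 ≤ n + 1 by omega) (swp hF)) ?_ H ?_ (hH 0 (by omega) _)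
    · have := blk_map_std (sh 0 (show 0 + 3 ≤ n + 1 by omega)) _ (swp_zero hF)
      rwa [show sh 0 (show 0 + 3 ≤ n + 1 by omega) 0 = 0 from Fin.ext (by simp [sh_val]),
        show sh 0 (show 0 + 3 ≤ n + 1 by omega) 1 = 1 from Fin.ext (by simp [sh_val]; exact (Nat.mod_eq_of_lt (by omega)).symm)] at this
    · rintro _ ⟨x, rfl⟩
      exact (hE ▸ Subgroup.mem_top x : x ∈ H.comap (emb n))

end CfsgLib.Phan
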