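import Cfsg.Agent.Lib.Recog.Phan.Two.Geom

/-!
# One coordinate more over the field with four elements
-/

set_option autoImplicit false

namespace CfsgLib.Phan

open CfsgLib.Classical CfsgLib.Classical.Herm CfsgLib.Known.SUBounded

universe u w

variable {F : Type u} [Field F] {G : Type w} [Group G] [Fintype F] (hF : Fintype.card F = 2 ^ 2)
include hF

set_option maxHeartbeats 2000000 in
/-- one coordinate more -/
theorem exists_extends_succ_two {M : ℕ} (hM : 4 ≤ M) (C : Chain G F 2 (M + 1))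
    (hpf : ∀ p r, (p + 2 ≤ r ∧ r + 3 ≤ M + 1) ∨ (r + 3 ≤ p ∧ p + 2 ≤ M + 1) → ∀ x y, Commute (C.ψ p x) (C.φ r y))
    (hff : ∀ p r, p + 3 ≤ r → r + 3 ≤ M + 1 → ∀ x y, Commute (C.φ p x) (C.φ r y))
    {fw : Cfsg.SU 4 F 2 →* G} (hw : ∀ (p : ℕ) (h : p + 3 ≤ 4) (x : Cfsg.SU 3 F 2), fw (blkAt p h x) = C.φ p x)
    {f₀ : Cfsg.SU M F 2 →* G} (h₀ : Extends C.tail f₀) : ∃ f, Extends C f := by
  classical
  obtain ⟨K, rfl⟩ : ∃ K, M = K + 1 := ⟨M - 1, by omega⟩
  have hq0 : (2 : ℕ) ≠ 0 := two_ne_zero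
  have hB := hermStd_isHerm (n := K + 1 + 1) hF
  let E₀ : Cfsg.SU (K + 1) F 2 →* G × Cfsg.SU (K + 1 + 1) F 2 := f₀.prod (emb (K + 1))
  let J₀ : Cfsg.SU 3 F 2 →* G × Cfsg.SU (K + 1 + 1) F 2 :=
    (C.φ 0).prod (blkAt 0 (show 0 + 3 ≤ K + 1 + 1 by omega))
  let W₀ : Cfsg.SU 4 F 2 →* G × Cfsg.SU (K + 1 + 1) F 2 :=
    fw.prod (blkAt 0 (show 0 + 4 ≤ K + 1 + 1 by omega))
  have hW0 : ∀ x, W₀ (blkAt 0 (show 0 + 3 ≤ 4 by omega) x) = J₀ x := fun x => by
    refine Prod.ext (hw 0 _ x) ?_
    show blkAt 0 _ (blkAt 0 _ x) = blkAt 0 _ x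
    rw [blkAt_comp]
  have hW1 : ∀ x, W₀ (emb 3 x) = E₀ (blkAt 0 (show 0 + 3 ≤ K + 1 by omega) x) := fun x => by
    refine Prod.ext ?_ ?_
    · show fw (emb 3 x) = f₀ _
      rw [emb_eq, hw 1, h₀ 0 (by omega)]
      rfl
    · show blkAt 0 _ (emb 3 x) = emb (K + 1) _
      rw [emb_eq, blkAt_comp, emb_comp]
  let Γ : Subgroup (G × Cfsg.SU (K + 1 + 1) F 2) := E₀.range ⊔ Subgroup.zpowers (J₀ (swp hF))
  have hlo : ∀ x, J₀ (emb 2 x) = E₀ (blkAt 0 (show 0 + 2 ≤ K + 1 by omega) x) := fun x => by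
    refine Prod.ext ?_ ?_
    · show C.φ 0 (emb 2 x) = f₀ _
      rw [h₀.on_two (by omega)]
      show C.φ 0 (emb 2 x) = C.ψ (0 + 1) x
      rw [emb_eq]
      exact C.lo 0 (by omega) x
    · show blkAt 0 _ (emb 2 x) = emb (K + 1) _
      rw [emb_eq, blkAt_comp, emb_comp]
  have hWΓ : ∀ x, W₀ x ∈ Γ := fun x => by
    refine (gen_succ hF (k := 3) le_rfl (t := blkAt 0 (show 0 + 3 ≤ 4 by omega) (swp hF)) ?_
      (Γ.comap W₀) ?_ ?_).ge (Subgroup.mem_top x)
    · exact blk_map_std (sh 0 (show 0 + 3 ≤ 4 by omega)) _ (swp_zero hF)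
    · rintro _ ⟨z, rfl⟩
      exact Subgroup.mem_sup_left ⟨_, (hW1 z).symm⟩
    · show W₀ _ ∈ Γ
      rw [hW0]
      exact Subgroup.mem_sup_right (Subgroup.mem_zpowers _)
  have hJ : ∀ x, J₀ x ∈ Γ := fun x => hW0 x ▸ hWΓ _
  let ψE : Cfsg.SU (K + 1) F 2 →* Γ := E₀.codRestrict Γ fun A => Subgroup.mem_sup_left ⟨A, rfl⟩
  let J : Cfsg.SU 3 F 2 →* Γ := J₀.codRestrict Γ hJ
  let W : Cfsg.SU 4 F 2 →* Γ := W₀.codRestrict Γ hWΓ
  let t : Γ := J (swp hF)
  let θ : Γ →* Cfsg.SU (K + 1 + 1) F 2 := (MonoidHom.snd G _).comp Γ.subtype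
  have hθE : ∀ A, θ (ψE A) = emb (K + 1) A := fun A => rfl
  have hθJ : ∀ x, θ (J x) = blkAt 0 (show 0 + 3 ≤ K + 1 + 1 by omega) x := fun x => rfl
  have hloJ : ∀ x, J (emb 2 x) = ψE (blkAt 0 (show 0 + 2 ≤ K + 1 by omega) x) := fun x => Subtype.ext (hlo x)
  have hWJ : ∀ x, W (blkAt 0 (show 0 + 3 ≤ 4 by omega) x) = J x := fun x => Subtype.ext (hW0 x)
  have hWE : ∀ x, W (emb 3 x) = ψE (blkAt 0 (show 0 + 3 ≤ K + 1 by omega) x) := fun x => Subtype.ext (hW1 x)
  -- the first block commutes with the stabiliser of two vectors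
  have hfar : ∀ (A : Cfsg.SU K F 2) (x : Cfsg.SU 2 F 2), Commute (J (blkAt 0 (by omega) x)) (ψE (emb K A)) := by
    intro A x
    refine Subtype.ext (Prod.ext ?_ ?_)
    · show C.φ 0 (blkAt 0 _ x) * f₀ (emb K A) = f₀ (emb K A) * C.φ 0 (blkAt 0 _ x)
      rw [C.up 0 (by omega)]
      let S : Subgroup (Cfsg.SU K F 2) :=
        (Subgroup.centralizer {C.ψ 0 x}).comap (f₀.comp (emb K))
      have hS : S = ⊤ := blocks3_top hF K (by omega) S fun p hp z => by
        rw [Subgroup.mem_comap, Subgroup.mem_centralizer_singleton_iff, MonoidHom.comp_apply, emb_comp,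
          h₀ (p + 1) (by omega)]
        exact (hpf 0 (p + 1 + 1) (Or.inl ⟨by omega, by omega⟩) x z).symm
      exact (Subgroup.mem_centralizer_singleton_iff.1 (hS.ge (Subgroup.mem_top A) :)).symm
    · show blkAt 0 _ (blkAt 0 _ x) * emb (K + 1) (emb K A) = emb (K + 1) (emb K A) * blkAt 0 _ (blkAt 0 _ x)
      rw [blkAt_comp, emb_eq A, emb_comp]
      exact blkAt_commute _ _ (Or.inl (by omega)) x A
  have hfar2 : ∀ (A : Cfsg.SU (K - 2 + 1) F 2) (hA : 2 + (K - 2 + 1) ≤ K + 1) (x : Cfsg.SU 3 F 2),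
      Commute (J x) (ψE (blkAt 2 hA A)) := by
    intro A hA x
    refine Subtype.ext (Prod.ext ?_ ?_)
    · show C.φ 0 x * f₀ (blkAt 2 hA A) = f₀ (blkAt 2 hA A) * C.φ 0 x
      let S : Subgroup (Cfsg.SU (K - 2 + 1) F 2) :=
        (Subgroup.centralizer {C.φ 0 x}).comap (f₀.comp (blkAt 2 hA))
      have hS : S = ⊤ := by
        rcases eq_or_ne K 3 with hK | hK
        · subst hK
          refine eq_top_iff.2 fun z _ => ?_
          rw [Subgroup.mem_comap, Subgroup.mem_centralizer_singleton_iff, MonoidHom.comp_apply,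
            h₀.on_two (by omega)]
          exact hpf 3 0 (Or.inr ⟨by omega, by omega⟩) z x
        · refine blocks3_top hF _ (by omega) S fun p hp z => ?_
          rw [Subgroup.mem_comap, Subgroup.mem_centralizer_singleton_iff, MonoidHom.comp_apply, blkAt_comp,
            h₀ (2 + p) (by omega)]
          exact (hff 0 (2 + p + 1) (by omega) (by omega) x z).symm
      exact (Subgroup.mem_centralizer_singleton_iff.1 (hS.ge (Subgroup.mem_top A) :)).symm
    · show blkAt 0 _ x * emb (K + 1) (blkAt 2 hA A) = emb (K + 1) (blkAt 2 hA A) * blkAt 0 _ x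
      rw [emb_comp]
      exact blkAt_commute _ _ (Or.inl (by omega)) x A
  have ht : t = J (blkAt 0 (by omega) (rot hF)) * ψE (blkAt 0 (show 0 + 2 ≤ K + 1 by omega) (negOne hF)) := by
    show J (swp hF) = _
    rw [← hloJ, ← map_mul, emb_eq]
    rfl
  let _act : MulAction Γ (Sphere (hermStd (K + 1 + 1) hF)) := MulAction.compHom _ θ
  have hsm : ∀ (x : Γ) (p : Sphere (hermStd (K + 1 + 1) hF)), (x • p).1 = act (θ x) p.1 := fun _ _ => rfl
  have o01 : (0 : Fin (K + 1 + 1)) ≠ 1 := fun e => by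
    have := congrArg Fin.val e
    simp at this
  obtain ⟨i2, hi2⟩ : ∃ i2 : Fin (K + 1 + 1), i2.val = 2 := ⟨⟨2, by omega⟩, rfl⟩
  have o02 : (0 : Fin (K + 1 + 1)) ≠ i2 := fun e => by rw [← e] at hi2; simp at hi2
  have o12 : (1 : Fin (K + 1 + 1)) ≠ i2 := fun e => by rw [← e] at hi2; simp at hi2
  let s3 := sh 0 (show 0 + 3 ≤ K + 1 + 1 by omega)
  have s0 : s3 0 = 0 := Fin.ext (by simp [s3, sh_val])
  have s1 : s3 1 = 1 := Fin.ext (by simp [s3, sh_val])
  have s2 : s3 2 = i2 := Fin.ext (by simp [s3, sh_val, hi2])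
  have hT0 : act (θ t) (std 0) = std 1 := by
    have := blk_map_std s3 _ (swp_zero hF)
    rwa [s0, s1] at this
  have e10 : (std 1 : Fin (K + 1 + 1) → F) = Fin.cons 0 (std 0) := by rw [← std_succ]; rfl
  have e1emb : ∀ A : Cfsg.SU (K + 1) F 2, act (emb (K + 1) A) (std 1) = std 1 → ∃ A', emb K A' = A :=
    fun A hA => by
      rw [e10, act_emb_succ] at hA
      exact exists_emb hF (Fin.cons_right_injective (α := fun _ => F) (0 : F) hA)
  have hstab : ∀ A', t⁻¹ * ψE (emb K A') * t ∈ ψE.range := by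
    intro A'
    refine ⟨(blkAt 0 (show 0 + 2 ≤ K + 1 by omega) (negOne hF))⁻¹ * emb K A' *
      blkAt 0 (show 0 + 2 ≤ K + 1 by omega) (negOne hF), ?_⟩
    rw [ht, map_mul, map_mul, map_inv, mul_inv_rev]
    have := (hfar A' (rot hF)).eq
    calc (ψE _)⁻¹ * ψE (emb K A') * ψE _
        = (ψE (blkAt 0 (show 0 + 2 ≤ K + 1 by omega) (negOne hF)))⁻¹ *
            ((J (blkAt 0 (by omega) (rot hF)))⁻¹ * (J (blkAt 0 (by omega) (rot hF)) * ψE (emb K A'))) *
            ψE (blkAt 0 (show 0 + 2 ≤ K + 1 by omega) (negOne hF)) := by group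
      _ = _ := by rw [this]; group
  -- the element moving the second vector to the third
  let u₁ : Cfsg.SU 3 F 2 := emb 2 (rot hF)
  have hu0 : act u₁ (std 0) = std 0 := act_emb_zero _
  have hu1 : act u₁ (std 1) = std 2 := by
    have h : act (rot hF) (std 0) = std 1 := by
      funext i
      fin_cases i <;> simp [act, std, rot, su2, Matrix.mulVec_single]
    have e : (std 1 : Fin 3 → F) = Fin.cons 0 (std 0) := (std_succ (0 : Fin 2))
    rw [e, act_emb_succ, h, ← std_succ]
    rfl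
  have hS1 : act (θ (J u₁)) (std 1) = std i2 := by
    have := blk_map_std s3 _ hu1
    rwa [s1, s2] at this
  have hS0 : act (θ (J u₁)) (std 0) = std 0 := by
    have := blk_map_std s3 _ hu0
    rwa [s0] at this
  have orth2 : ∀ c : Fin (K + 1 + 1) → F, hermStd _ hF c c = 1 → hermStd _ hF (std 0) c = 0 →
      ∀ i j, hermStd (K + 1 + 1) hF ((![std 0, c] : Fin 2 → _) i) ((![std 0, c] : Fin 2 → _) j) =
        if i = j then 1 else 0 := fun c hc h0 i j => by
    fin_cases i <;> fin_cases j <;> simp [std_orth, hc, h0, hB.eq_zero_symm h0]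
  have orth3 : ∀ c : Fin (K + 1 + 1) → F, hermStd _ hF c c = 1 → hermStd _ hF (std 0) c = 0 →
      hermStd _ hF (std 1) c = 0 → ∀ i j, hermStd (K + 1 + 1) hF ((![std 0, std 1, c] : Fin 3 → _) i)
        ((![std 0, std 1, c] : Fin 3 → _) j) = if i = j then 1 else 0 := fun c hc h0 h1 i j => by
    fin_cases i <;> fin_cases j <;>
      simp [std_orth, o01, Ne.symm o01, hc, h0, h1, hB.eq_zero_symm h0, hB.eq_zero_symm h1]
  -- moving the second vector anywhere fixing two
  have move2 : ∀ c : Fin (K + 1 + 1) → F, hermStd _ hF c c = 1 → hermStd _ hF (std 0) c = 0 →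
      hermStd _ hF (std 1) c = 0 → ∃ A', act (θ (ψE (emb K A') * J u₁)) (std 1) = c := by
    intro c hc h0 h1
    obtain ⟨g', hg'⟩ := exists_act_eq hF (n := K + 1 + 1) (k := 3) (by omega) ![std 0, std 1, std i2]
      ![std 0, std 1, c] (orth3 (std i2) (by rw [std_orth, if_pos rfl]) (by rw [std_orth, if_neg o02])
        (by rw [std_orth, if_neg o12])) (orth3 c hc h0 h1)
    obtain ⟨A, rfl⟩ := exists_emb hF (hg' 0)
    obtain ⟨A', rfl⟩ := e1emb A (hg' 1)
    exact ⟨A', by rw [map_mul, act_mul, hS1, hθE]; exact hg' 2⟩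
  have huE : J u₁ ∈ ψE.range := ⟨_, (hloJ _).symm⟩
  -- the closing element for a pair with inner product one
  have closed_one : ∀ (v : Fin (K + 1 + 1) → F) (hv : hermStd _ hF v v = 1), hermStd _ hF (std 0) v = 1 →
      v ≠ std 0 → ∃ g : Γ, g • ept hF 0 = (⟨v, hv⟩ : Sphere (hermStd (K + 1 + 1) hF)) ∧
        ∀ c, Orth (hermStd (K + 1 + 1) hF) (ept hF 0) c → Orth (hermStd (K + 1 + 1) hF) c ⟨v, hv⟩ →
          ∃ a ∈ ψE.range, a • ept hF 1 = c ∧ (a * t)⁻¹ * g * (a * t) ∈ ψE.range := by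
    intro v hv hα hne
    have h2 := two_eq_zero_four hF
    obtain ⟨r, hr⟩ : ∃ r, r = v - std 0 := ⟨_, rfl⟩
    have hr0 : r ≠ 0 := fun e => hne (sub_eq_zero.1 (hr ▸ e))
    have her : hermStd _ hF (std 0) r = 0 := by
      rw [hr, map_sub, hα, std_orth, if_pos rfl, sub_self]
    have hrr : hermStd _ hF r r = 0 := by
      have e : hermStd _ hF v (std 0) = 1 := by rw [← hB.symm (std 0) v, hα, map_one]
      rw [hr]
      simp only [map_sub, LinearMap.sub_apply, hv, hα, e, std_orth, if_pos]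
      ring
    obtain ⟨a₁, ha₁, hra, hfa⟩ := exists_val_orth hB (x := ![std 0]) (orth_one
      (by rw [std_orth, if_pos rfl]; exact one_ne_zero)) hr0 hrr (fun i => by fin_cases i; exact her)
      (one_ne_zero (α := F))
    have hea : hermStd _ hF (std 0) a₁ = 0 := hfa 0
    have har : hermStd _ hF a₁ r = 1 := by rw [← hB.symm r a₁, hra, map_one]
    obtain ⟨A₀, hA₀⟩ := exists_act_eq hF (n := K + 1 + 1) (k := 3) (by omega) ![std 0, std 1, std i2]
      ![std 0, a₁, r - a₁] (orth3 (std i2) (by rw [std_orth, if_pos rfl]) (by rw [std_orth, if_neg o02])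
        (by rw [std_orth, if_neg o12])) (fun i j => by
        have k1 : hermStd _ hF (r - a₁) (r - a₁) = 1 := by
          simp only [map_sub, LinearMap.sub_apply, hrr, hra, har, ha₁]
          linear_combination -h2
        obtain ⟨a₂, ha₂⟩ : ∃ a₂, a₂ = r - a₁ := ⟨_, rfl⟩
        have k2 : hermStd _ hF a₁ (r - a₁) = 0 := by rw [map_sub, har, ha₁, sub_self]
        have k3 : hermStd _ hF (std 0) (r - a₁) = 0 := by rw [map_sub, her, hea, sub_self]
        rw [← ha₂] at k1 k2 k3 ⊢
        fin_cases i <;> fin_cases j <;>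
          simp [std_orth, ha₁, hea, k1, k2, k3, hB.eq_zero_symm hea, hB.eq_zero_symm k2, hB.eq_zero_symm k3])
    obtain ⟨A, rfl⟩ := exists_emb hF (hA₀ 0)
    have hA1 : act (emb (K + 1) A) (std 1) = a₁ := hA₀ 1
    have hA2 : act (emb (K + 1) A) (std i2) = r - a₁ := hA₀ 2
    obtain ⟨ω, hω⟩ := exists_omega hF
    obtain ⟨x, hxm⟩ := exists_fourier hF hω
    let x4 : Cfsg.SU 4 F 2 := blkAt 0 (show 0 + 3 ≤ 4 by omega) x
    have hθJx : θ (J x) = blk s3 x := rfl
    have hsplit : act (θ (J x)) (std 0) = std 0 + std 1 + std i2 := by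
      funext i
      by_cases hi : ∃ k, s3 k = i
      · obtain ⟨k, rfl⟩ := hi
        rw [hθJx, ← s0, blk_std]
        fin_cases k <;> simp [hxm, std, ← s1, ← s2, s3.injective.eq_iff]
      · push Not at hi
        rw [hθJx, blk_off _ _ _ hi]
        simp [std, (Ne.symm (s0 ▸ hi 0) : i ≠ 0), (Ne.symm (s1 ▸ hi 1) : i ≠ 1), (Ne.symm (s2 ▸ hi 2) : i ≠ i2)]
    have hgv : act (θ (ψE A * J x * (ψE A)⁻¹)) (std 0) = v := by
      rw [map_mul, map_mul, map_inv, act_mul, act_mul, hθE, act_inv_eq (act_emb_zero A), hsplit, act,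
        Matrix.mulVec_add, Matrix.mulVec_add]
      change act (emb (K + 1) A) (std 0) + act (emb (K + 1) A) (std 1) + act (emb (K + 1) A) (std i2) = v
      rw [act_emb_zero, hA1, hA2, hr]
      abel
    refine ⟨ψE A * J x * (ψE A)⁻¹, Subtype.ext hgv, ?_⟩
    rintro ⟨c, hc⟩ hec hcv
    have hec' : hermStd _ hF (std 0) c = 0 := hec
    have hcv' : hermStd _ hF c v = 0 := hcv
    obtain ⟨c', hc'⟩ : ∃ c', c' = act (emb (K + 1) A)⁻¹ c := ⟨_, rfl⟩
    have n0 : c' 0 = 0 := by
      rw [← std_left hF 0 c', hc', ← act_inv_eq (act_emb_zero A), act_form]; exact hec'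
    have n1 : c' 1 + c' i2 = 0 := by
      rw [← std_left hF 1 c', ← std_left hF i2 c', hc', ← act_inv_eq hA1, ← act_inv_eq hA2, act_form, act_form,
        ← LinearMap.add_apply, ← map_add, add_sub_cancel, hr, Herm.sub_left, hB.eq_zero_symm hcv', hec', sub_self]
    have n12 : c' i2 = c' 1 := by linear_combination n1 - c' 1 * h2
    -- the outer part
    obtain ⟨L, hL⟩ : ∃ L, L = K - 2 := ⟨_, rfl⟩
    obtain ⟨w, hw'⟩ : ∃ w : Fin (L + 1) → F, w = fun i => c' (sh 3 (show 3 + (L + 1) ≤ K + 1 + 1 by omega) i) :=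
      ⟨_, rfl⟩
    have hsum : ∀ z : Fin (K + 1 + 1) → F, ∀ z' : Fin (L + 1) → F,
        (∀ i, z' i = z (sh 3 (show 3 + (L + 1) ≤ K + 1 + 1 by omega) i)) →
        hermStd _ hF z z = z 0 * z 0 ^ 2 + z 1 * z 1 ^ 2 + z i2 * z i2 ^ 2 + hermStd _ hF z' z' := by
      intro z z' hz
      rw [hermStd_apply, hermStd_apply, Cfsg.hermForm, Cfsg.hermForm]
      obtain ⟨g, hg⟩ : ∃ g : ℕ → F, ∀ i : Fin (K + 1 + 1), g i.1 = z i * z i ^ 2 :=
        ⟨fun j => if h : j < K + 1 + 1 then z ⟨j, h⟩ * z ⟨j, h⟩ ^ 2 else 0, fun i => by simp [i.2]⟩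
      rw [Finset.sum_congr rfl (fun i _ => (hg i).symm), Fin.sum_univ_eq_sum_range (fun j => g j),
        show Finset.range (K + 1 + 1) = Finset.range (3 + (L + 1)) by congr 1; omega, Finset.sum_range_add, Finset.sum_range_succ, Finset.sum_range_succ,
        Finset.sum_range_succ, Finset.sum_range_zero, zero_add, ← hg 0, ← hg 1, ← hg i2, hi2,
        ← Fin.sum_univ_eq_sum_range (fun j => g (3 + j)) (L + 1)]
      simp only [Fin.val_zero, Fin.val_one]
      congr 1
      refine Finset.sum_congr rfl fun i _ => ?_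
      rw [hz, ← hg]
      rfl
    have hc1 : hermStd _ hF c' c' = 1 := by rw [hc', act_form]; exact hc
    have hww : hermStd _ hF w w = 1 := by
      have := hsum c' w fun i => congrFun hw' i
      rw [hc1, n0, n12] at this
      linear_combination -this - (c' 1 * c' 1 ^ 2) * h2
    obtain ⟨k, hk⟩ := exists_act_eq hF (n := L + 1) (k := 1) (by omega) ![std 0] ![w]
      (fun i j => by fin_cases i; fin_cases j; simp [std_orth])
      (fun i j => by fin_cases i; fin_cases j; simp [hww])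
    have hk0 : act k (std 0) = w := hk 0
    obtain ⟨k', hk'⟩ : ∃ k', k' = blkAt 2 (show 2 + (L + 1) ≤ K + 1 by omega) k := ⟨_, rfl⟩
    have hkJ : Commute (J x) (ψE k') := by subst hL; rw [hk']; exact hfar2 k _ x
    -- the inner part
    obtain ⟨y4, hy4⟩ : ∃ y : Fin 4 → F, y = ![0, c' 1, c' 1, 1] := ⟨_, rfl⟩
    have hyy : hermStd 4 hF y4 y4 = 1 := by
      rw [hermStd_apply, Cfsg.hermForm, hy4]
      simp [Fin.sum_univ_four]
      linear_combination (c' 1 * c' 1 ^ 2) * h2
    have hy0 : hermStd 4 hF (std 0) y4 = 0 := by rw [std_left hF, hy4]; rfl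
    obtain ⟨b₀, hb₀⟩ := exists_act_eq hF (n := 4) (k := 2) (by omega) ![std 0, std 1] ![std 0, y4]
      (fun i j => by fin_cases i <;> fin_cases j <;> simp [std_orth])
      (fun i j => by
        fin_cases i <;> fin_cases j <;>
          simp [std_orth, hyy, hy0, (hermStd_isHerm (n := 4) hF).eq_zero_symm hy0])
    obtain ⟨b, rfl⟩ := exists_emb hF (hb₀ 0)
    have hb1 : act (emb 3 b) (std 1) = y4 := hb₀ 1
    have hxy : act x4 y4 = y4 := by
      funext i
      by_cases hi : ∃ j, sh 0 (show 0 + 3 ≤ 4 by omega) j = i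
      · obtain ⟨j, rfl⟩ := hi
        show act (blk _ x) y4 _ = _
        rw [blk_apply]
        fin_cases j <;> simp [act, hxm, hy4, sh, Matrix.mulVec, dotProduct, Fin.sum_univ_three]
        all_goals first
          | linear_combination (c' 1) * h2
          | linear_combination (c' 1) * hω - (c' 1) * h2
      · push Not at hi
        show act (blk _ x) y4 _ = _
        rw [blk_off _ _ _ hi]
    obtain ⟨D, hD⟩ := exists_emb hF (k := 3)
      (g := (emb 3 b * blkAt 0 (show 0 + 3 ≤ 4 by omega) (swp hF))⁻¹ * x4 *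
        (emb 3 b * blkAt 0 (show 0 + 3 ≤ 4 by omega) (swp hF))) (by
        have e : act (emb 3 b * blkAt 0 (show 0 + 3 ≤ 4 by omega) (swp hF)) (std 0) = y4 := by
          rw [act_mul]
          exact (congrArg (act (emb 3 b))
            (blk_map_std (sh 0 (show 0 + 3 ≤ 4 by omega)) _ (swp_zero hF))).trans hb1
        rw [act_mul, act_mul, e, hxy]
        exact act_inv_eq e)
    refine ⟨ψE A * (ψE k' * W (emb 3 b)), mul_mem ⟨A, rfl⟩ (mul_mem ⟨_, rfl⟩ ⟨_, (hWE b).symm⟩),
      Subtype.ext ?_, ?_⟩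
    · show act (θ _) (std 1) = c
      have eW : act (θ (W (emb 3 b))) (std 1) =
          fun i => if h : i.1 < 4 then y4 ⟨i.1, h⟩ else 0 := by
        have e : act (blk (sh 0 (show 0 + 4 ≤ K + 1 + 1 by omega)) (emb 3 b)) (std 1) =
            fun i : Fin (K + 1 + 1) => if h : i.1 < 4 then y4 ⟨i.1, h⟩ else 0 := by
          funext i
          by_cases hi : i.1 < 4
          · have ei : sh 0 (show 0 + 4 ≤ K + 1 + 1 by omega) ⟨i.1, hi⟩ = i := Fin.ext (by simp [sh_val])
            have e1 : sh 0 (show 0 + 4 ≤ K + 1 + 1 by omega) 1 = 1 := Fin.ext (by simp [sh_val])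
            rw [← ei, ← e1, blk_std]
            have := congrFun hb1 ⟨i.1, hi⟩
            rw [act, std, Matrix.mulVec_single_one] at this
            rw [show (emb 3 b).1.1 ⟨i.1, hi⟩ 1 = y4 ⟨i.1, hi⟩ from this]
            rw [dif_pos (show (sh 0 (show 0 + 4 ≤ K + 1 + 1 by omega) ⟨i.1, hi⟩).1 < 4 by rw [ei]; exact hi)]
            exact congrArg y4 (Fin.ext (by rw [sh_val]; simp))
          · rw [blk_off _ _ _ fun a e => hi (by rw [← e, sh_val]; omega), dif_neg hi]
            exact Pi.single_eq_of_ne (fun e => hi (by rw [e]; simp)) 1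
        exact e
      rw [map_mul, map_mul, act_mul, act_mul, eW, hθE, hθE]
      suffices e : act (emb (K + 1) k') (fun i => if h : i.1 < 4 then y4 ⟨i.1, h⟩ else 0) = c' by
        rw [e, hc', ← act_mul, mul_inv_cancel, act_one]
      rw [hk', emb_comp]
      have hp3 : 3 + (L + 1) ≤ K + 1 + 1 := by omega
      funext i
      rcases Nat.lt_or_ge i.1 3 with hi | hi
      · rw [blkAt, blk_off _ _ _ fun a e => by
          have := congrArg Fin.val e
          simp [sh_val] at this
          omega, dif_pos (by omega)]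
        obtain ⟨i, hin⟩ := i
        rcases i with _ | _ | _ | i
        · simp [hy4]; exact n0.symm
        · simp only [hy4]
          exact congrArg c' (Fin.ext (by simp))
        · simp only [hy4]
          exact n12.symm.trans (congrArg c' (Fin.ext (by simp [hi2])))
        · change i + 1 + 1 + 1 < 3 at hi
          omega
      · obtain ⟨j, rfl⟩ : ∃ j : Fin (L + 1), sh 3 hp3 j = i :=
          ⟨⟨i.1 - 3, by omega⟩, Fin.ext (by simp [sh_val]; omega)⟩
        show act (blk (sh 3 _) k) _ _ = _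
        rw [blk_apply]
        have e : (fun a : Fin (L + 1) => if h : (sh 3 hp3 a).1 < 4 then
            y4 ⟨_, h⟩ else 0) = std 0 := by
          funext a
          rcases eq_or_ne a 0 with rfl | ha
          · have h3 : (sh 3 hp3 (0 : Fin (L + 1))).1 < 4 := by simp [sh_val]
            rw [dif_pos h3, show (⟨_, h3⟩ : Fin 4) = 3 from Fin.ext (by simp [sh_val])]
            simp [hy4, std]
          · have : a.1 ≠ 0 := fun e => ha (Fin.ext e)
            rw [dif_neg (by simp [sh_val]; omega)]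
            simp [std, ha]
        rw [e, hk0, hw']
    · refine ⟨blkAt 0 (show 0 + 3 ≤ K + 1 by omega) D, ?_⟩
      rw [← hWE, hD, map_mul, map_mul, map_inv, map_mul, hWJ, hWJ]
      have hcom : (ψE k')⁻¹ * J x * ψE k' = J x := by rw [mul_assoc, hkJ.eq, inv_mul_cancel_left]
      show (W (emb 3 b) * t)⁻¹ * J x * (W (emb 3 b) * t) = _
      conv_lhs => rw [← hcom]
      group
  have C' : PCover Γ (Sphere (hermStd (K + 1 + 1) hF)) (Orth (hermStd (K + 1 + 1) hF))
      (Good2 hF) (ept hF 0) (ept hF 1) ψE.range t :=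
    { irrefl := fun x hx => one_ne_zero (x.2.symm.trans hx)
      asymm := fun x z hxz => hB.eq_zero_symm hxz
      gsymm := fun x z hxz => good2_symm hF hxz
      equiv := fun x p p' hp => by
        show hermStd _ hF (x • p).1 (x • p').1 = 0
        rw [hsm, hsm, act_form]; exact hp
      gequiv := fun x p p' hp => by
        show _ = 0 ∨ (_ = 1 ∧ x • p ≠ x • p')
        rw [hsm, hsm, act_form]
        exact hp.imp_right fun e => ⟨e.1, fun he => e.2 (MulAction.injective x he)⟩
      fix := by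
        rintro _ ⟨A, rfl⟩
        exact Subtype.ext (by rw [hsm, hθE]; exact act_emb_zero A)
      gen := by
        refine Subgroup.map_injective Γ.subtype_injective ?_
        rw [Subgroup.map_sup, MonoidHom.map_range, MonoidHom.map_zpowers, ← MonoidHom.range_eq_map,
          Subgroup.range_subtype]
        rfl
      sq := by
        obtain ⟨A, hA⟩ := exists_emb hF (k := 2) (g := swp hF * swp hF) (by
          rw [act_mul, swp_zero]
          funext i
          rw [swp, act_mul]
          have h1 : act (blkAt 1 (show 1 + 2 ≤ 3 by omega) (negOne hF)) (std 1) = -std 1 := by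
            funext j
            fin_cases j
            · exact (blk_off (sh 1 (show 1 + 2 ≤ 3 by omega)) _ _ (i := 0) fun a e => by
                have := congrArg Fin.val e
                simp [sh_val] at this
                ).trans (by simp [std])
            · exact (blk_std (sh 1 (show 1 + 2 ≤ 3 by omega)) (negOne hF) 0 0).trans (by simp [negOne, su2, std])
            · exact (blk_std (sh 1 (show 1 + 2 ≤ 3 by omega)) (negOne hF) 1 0).trans (by simp [negOne, su2, std])
          have h2 : act (blkAt 0 (show 0 + 2 ≤ 3 by omega) (rot hF)) (std 1) = -std 0 := by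
            funext j
            fin_cases j
            · exact (blk_std (sh 0 (show 0 + 2 ≤ 3 by omega)) (rot hF) 0 1).trans (by simp [rot, su2, std])
            · exact (blk_std (sh 0 (show 0 + 2 ≤ 3 by omega)) (rot hF) 1 1).trans (by
                simp [rot, su2, std, zero_pow (show (2 : ℕ) ≠ 0 by omega)])
            · exact (blk_off (sh 0 (show 0 + 2 ≤ 3 by omega)) _ _ (i := 2) fun a e => by
                have := congrArg Fin.val e
                simp [sh_val] at this
                omega).trans (by simp [std])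
          have h2' : act (blkAt 0 (show 0 + 2 ≤ 3 by omega) (rot hF)) (-std 1) = std 0 := by
            rw [act, Matrix.mulVec_neg]
            exact (congrArg Neg.neg h2).trans (neg_neg _)
          rw [h1, h2'])
        refine ⟨blkAt 0 (show 0 + 2 ≤ K + 1 by omega) A, ?_⟩
        rw [← hloJ, hA, map_mul]
      edge := by show hermStd _ hF (std 0) (std 1) = 0; rw [std_orth, if_neg o01]
      move := Subtype.ext (by rw [hsm]; exact hT0)
      trans := fun c hc => by
        obtain ⟨g', hg'⟩ := exists_act_eq hF (n := K + 1 + 1) (k := 2) (by omega) ![std 0, std 1] ![std 0, c.1]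
          (fun i j => by fin_cases i <;> fin_cases j <;> simp [std_orth, o01, Ne.symm o01]) (orth2 c.1 c.2 hc)
        obtain ⟨A, rfl⟩ := exists_emb hF (hg' 0)
        exact ⟨ψE A, ⟨A, rfl⟩, Subtype.ext (by rw [hsm, hθE]; exact hg' 1)⟩
      stab := by
        rintro _ ⟨A, rfl⟩ hA
        obtain ⟨A', rfl⟩ := e1emb A (by
          have := congrArg Subtype.val hA
          rwa [hsm, hθE] at this)
        exact hstab A'
      tri := fun c hc hc1 => by
        obtain ⟨A', hA'⟩ := move2 c.1 c.2 hc hc1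
        -- the relation inside three coordinates
        obtain ⟨d, hd⟩ : ∃ d, d = act (swp hF)⁻¹ (std 2) := ⟨_, rfl⟩
        obtain ⟨B', hB'⟩ := exists_act_eq hF (n := 3) (k := 2) (by omega) ![std 0, std 1] ![std 0, d]
          (fun i j => by fin_cases i <;> fin_cases j <;> simp [std_orth])
          (fun i j => by
            have k1 : hermStd 3 hF d d = 1 := by rw [hd, act_form, std_orth, if_pos rfl]
            have k2 : hermStd 3 hF (std 0) d = 0 := by
              rw [hd, ← act_inv_eq (swp_zero hF), act_form, std_orth, if_neg (by decide)]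
            fin_cases i <;> fin_cases j <;>
              simp [std_orth, k1, k2, (hermStd_isHerm (n := 3) hF).eq_zero_symm k2])
        obtain ⟨AB, rfl⟩ := exists_emb hF (hB' 0)
        obtain ⟨AC, hAC⟩ := exists_emb hF (k := 2)
          (g := (emb 2 AB * swp hF)⁻¹ * ((swp hF)⁻¹ * u₁ * swp hF)) (by
            rw [act_mul, act_mul, act_mul, swp_zero, hu1, ← hd]
            exact act_inv_eq (by rw [act_mul, swp_zero]; exact hB' 1))
        refine ⟨ψE (emb K A') * J u₁, mul_mem ⟨_, rfl⟩ huE, Subtype.ext (by rw [hsm]; exact hA'),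
          t⁻¹ * ψE (emb K A') * t * J (emb 2 AB), mul_mem (hstab A') ⟨_, (hloJ _).symm⟩, J (emb 2 AC),
          ⟨_, (hloJ _).symm⟩, ?_⟩
        rw [hAC, map_mul, map_mul, map_mul, map_inv, map_inv, map_mul, show J (swp hF) = t from rfl]
        group
      closed := by
        rintro ⟨v, hv⟩ hg c₀ hc₀ hc₀v
        rcases hg with hg | ⟨hg, hne⟩
        swap
        · exact closed_one v hv hg fun e => hne (Subtype.ext e.symm)
        have hg' : hermStd _ hF (std 0) v * powHom hF (hermStd _ hF (std 0) v) ≠ 1 := by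
          rw [show hermStd _ hF (std 0) v = 0 from hg, zero_mul]; exact zero_ne_one
        obtain ⟨α, hα⟩ : ∃ α, α = hermStd _ hF (std 0) v := ⟨_, rfl⟩
        rw [← hα] at hg'
        obtain ⟨w₀, hw₀⟩ : ∃ w, w = v - α • std 0 := ⟨_, rfl⟩
        have k1 : hermStd _ hF (std 0) w₀ = 0 := by
          rw [hw₀, map_sub, smul_right, std_orth, if_pos rfl, mul_one, hα, sub_self]
        have k2 : hermStd _ hF w₀ w₀ = 1 - α * powHom hF α := by
          have e : hermStd _ hF v (std 0) = powHom hF α := by rw [hα, hB.symm]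
          rw [hw₀]
          simp only [map_sub, LinearMap.sub_apply, Herm.smul_left, Herm.smul_right, hv, e, std_orth, if_pos,
            ← hα]
          ring
        obtain ⟨κ, hκ0, hκ⟩ := hB.scale_to (x := w₀) (k2 ▸ sub_ne_zero.2 (Ne.symm hg')) (map_one _) one_ne_zero
        obtain ⟨β, hβ⟩ : ∃ β, β = κ⁻¹ := ⟨_, rfl⟩
        have k3 : hermStd _ hF (std 0) (κ • w₀) = 0 := by rw [smul_right, k1, mul_zero]
        obtain ⟨g₀, hg₀⟩ := exists_act_eq hF (n := K + 1 + 1) (k := 2) (by omega) ![std 0, std 1]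
          ![std 0, κ • w₀] (fun i j => by fin_cases i <;> fin_cases j <;> simp [std_orth, o01, Ne.symm o01])
          (orth2 _ hκ k3)
        obtain ⟨A, rfl⟩ := exists_emb hF (hg₀ 0)
        have hA1 : act (emb (K + 1) A) (std 1) = κ • w₀ := hg₀ 1
        have hab : α * α ^ 2 + β * β ^ 2 = 1 := by
          rw [Herm.IsHerm.smul_self, k2, powHom_apply, powHom_apply] at hκ
          rw [hβ, inv_pow]
          have hκq : κ ^ 2 ≠ 0 := pow_ne_zero _ hκ0
          field_simp
          linear_combination -hκ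
        obtain ⟨P₀, hP₀⟩ : ∃ P₀, P₀ = J (blkAt 0 (by omega) (su2 hF α β hab)) := ⟨_, rfl⟩
        have hP0e : act (θ P₀) (std 0) = α • std 0 + β • std 1 := by
          rw [hP₀, hθJ, blkAt_comp]
          have z0 : sh 0 (show 0 + 2 ≤ K + 1 + 1 by omega) 0 = 0 := Fin.ext (by simp [sh_val])
          have z1 : sh 0 (show 0 + 2 ≤ K + 1 + 1 by omega) 1 = 1 := Fin.ext (by simp [sh_val])
          funext i
          by_cases hi : ∃ a, sh 0 (show 0 + 2 ≤ K + 1 + 1 by omega) a = i
          · obtain ⟨a, rfl⟩ := hi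
            fin_cases a
            · conv_lhs => rw [← z0]
              exact (blk_std _ _ 0 0).trans (by simp [su2, std, z0, o01])
            · conv_lhs => rw [← z0]
              exact (blk_std _ _ 1 0).trans (by simp [su2, std, z1, Ne.symm o01])
          · push Not at hi
            have n0 : i ≠ 0 := fun e => hi 0 (z0.trans e.symm)
            have n1 : i ≠ 1 := fun e => hi 1 (z1.trans e.symm)
            exact (blk_off _ _ _ hi).trans (by simp [std, n0, n1])
        have hfix0 : ∀ a, a ∈ ψE.range → act (θ a) (std 0) = std 0 := by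
          rintro _ ⟨B, rfl⟩; exact act_emb_zero B
        refine ⟨ψE A * P₀ * (ψE A)⁻¹, Subtype.ext ?_, ?_⟩
        · show act (θ _) (std 0) = v
          rw [map_mul, map_mul, act_mul, act_mul, hfix0 _ (inv_mem ⟨A, rfl⟩), hP0e, hθE, act,
            Matrix.mulVec_add, Matrix.mulVec_smul, Matrix.mulVec_smul]
          change α • act (emb (K + 1) A) (std 0) + β • act (emb (K + 1) A) (std 1) = v
          rw [act_emb_zero, hA1, smul_smul, hβ, inv_mul_cancel₀ hκ0, one_smul, hw₀, add_sub_cancel]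
        rintro ⟨c, hc⟩ hce hcv
        obtain ⟨c', hc'⟩ : ∃ c', c' = act (emb (K + 1) A)⁻¹ c := ⟨_, rfl⟩
        have hce' : hermStd _ hF (std 0) c = 0 := hce
        have hcv' : hermStd _ hF c v = 0 := hcv
        have m0 : hermStd _ hF (std 0) c' = 0 := by
          rw [hc', ← act_inv_eq (act_emb_zero A), act_form]; exact hce'
        have m1 : hermStd _ hF (std 1) c' = 0 := by
          rw [hc', ← act_inv_eq hA1, act_form, Herm.smul_left, hw₀, Herm.sub_left, Herm.smul_left,
            hB.eq_zero_symm hcv', hce']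
          ring
        obtain ⟨A'', hA''⟩ := move2 c' (by rw [hc', act_form]; exact hc) m0 m1
        refine ⟨ψE A * (ψE (emb K A'') * J u₁), mul_mem ⟨A, rfl⟩ (mul_mem ⟨_, rfl⟩ huE), Subtype.ext ?_, ?_⟩
        · show act (θ _) (std 1) = c
          rw [map_mul, act_mul, hA'', hθE, hc', ← act_mul, mul_inv_cancel, act_one]
        · have hcom : (ψE (emb K A''))⁻¹ * P₀ * ψE (emb K A'') = P₀ := by
            rw [hP₀, mul_assoc, (hfar A'' _).eq, inv_mul_cancel_left]
          obtain ⟨AD, hAD⟩ := exists_emb hF (k := 2)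
            (g := (u₁ * swp hF)⁻¹ * blkAt 0 (by omega) (su2 hF α β hab) * (u₁ * swp hF)) (by
              rw [act_mul, act_mul, act_mul, swp_zero, hu1, blkAt_fix _ _ (Or.inr (by simp))]
              exact act_inv_eq (by rw [act_mul, swp_zero, hu1]))
          refine ⟨blkAt 0 (show 0 + 2 ≤ K + 1 by omega) AD, ?_⟩
          rw [← hloJ, hAD, map_mul, map_mul, map_inv, map_mul, ← hP₀]
          show (J u₁ * t)⁻¹ * P₀ * (J u₁ * t) = _
          conv_lhs => rw [← hcom]
          group
      same := fun u' v' a b hg h1 h2 h3 h4 => same_two hF (by omega) u' v' a b hg h1 h2 h3 h4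
      step := fun c v w h1 h2 h3 => step_two hF (by omega) _ c v w h1 }
  have hinj : Function.Injective θ := C'.injective θ
    (fun x hx => Subtype.ext (by rw [hsm, hx, act_one]))
    (by
      rintro _ ⟨A, rfl⟩ hA
      rw [hθE] at hA
      rw [emb_injective (K + 1) (hA.trans (map_one _).symm), map_one])
  have hsurj : θ.range = ⊤ := gen_succ hF (by omega) (t := θ t) hT0 _
    (by rintro _ ⟨A, rfl⟩; exact ⟨ψE A, hθE A⟩) ⟨t, rfl⟩
  let eq := MulEquiv.ofBijective θ ⟨hinj, MonoidHom.range_eq_top.1 hsurj⟩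
  refine ⟨((MonoidHom.fst G _).comp Γ.subtype).comp eq.symm.toMonoidHom, fun p h x => ?_⟩
  show (eq.symm (blkAt p h x) : G × Cfsg.SU (K + 1 + 1) F 2).1 = C.φ p x
  rcases p with _ | p
  · rw [show blkAt 0 h x = eq (J x) from rfl, eq.symm_apply_apply]
    rfl
  · rw [show blkAt (p + 1) h x = eq (ψE (blkAt p (show p + 3 ≤ K + 1 by omega) x)) from
      (emb_comp (show p + 3 ≤ K + 1 by omega) x).symm, eq.symm_apply_apply]
    exact h₀ p (by omega) x

end CfsgLib.Phan
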