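import Cfsg.Agent.Lib.Recog.Phan.Two.Window
import Cfsg.Agent.Lib.Recog.Phan.Two.Step

/-!
# Coherent edges and extension over the field with four elements
-/

set_option autoImplicit false

namespace CfsgLib.Phan

open CfsgLib.Classical CfsgLib.Classical.Herm CfsgLib.Known.SUBounded

universe u w

variable {F : Type u} [Field F] {G : Type w} [Group G] [Fintype F] (hF : Fintype.card F = 2 ^ 2)
include hF

theorem Edge.injective_two {φ : Cfsg.SU 3 F 2 →* G} {V A B : Subgroup G} (h : Edge φ V A B) :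
    Function.Injective (φ.comp bup) ∧ Function.Injective (φ.comp blo) := by
  have key : ∀ (k : Cfsg.SU 3 F 2), φ k = 1 → k.1.1 1 0 = 0 ∧ k.1.1 2 1 = 0 ∧ k.1.1 0 0 = k.1.1 1 1 ∧
      k.1.1 1 1 = k.1.1 2 2 := by
    intro k hk
    have hc := h.ker (show k ∈ φ.ker from hk)
    obtain ⟨h10, h20, -⟩ := scalar_of_commute hF (Subgroup.mem_center_iff.1 hc (dd hF)).symm
      (Subgroup.mem_center_iff.1 hc (cyc F 2)).symm
    have e := congrArg (fun y : Cfsg.SU 3 F 2 => y.1.1) (Subgroup.mem_center_iff.1 hc (cyc F 2))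
    change (cyc F 2).1.1 * k.1.1 = k.1.1 * (cyc F 2).1.1 at e
    have f := fun i j => congrFun (congrFun e i) j
    have a := f 1 0
    have b := f 2 1
    have c := f 2 0
    simp [cyc, Matrix.mul_apply, Fin.sum_univ_three] at a b c
    grind
  refine ⟨(injective_iff_map_eq_one _).2 fun x hx => ?_, (injective_iff_map_eq_one _).2 fun x hx => ?_⟩
  · obtain ⟨a, -, b, c⟩ := key (bup x) hx
    simp [bup_val] at a b c
    rw [c] at b
    rw [su2_eta hF x]
    refine Subtype.ext (Subtype.ext ?_)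
    ext i j
    fin_cases i <;> fin_cases j <;> simp [su2_val, a, b]
  · obtain ⟨-, a, b, c⟩ := key (blo x) hx
    simp [blo_val] at a b c
    rw [su2_eta hF x]
    refine Subtype.ext (Subtype.ext ?_)
    ext i j
    fin_cases i <;> fin_cases j <;> simp [su2_val, a, ← b]

/-- the next edge adjusted to the previous one -/
theorem exists_adjust_two {φ φ' : Cfsg.SU 3 F 2 →* G} {V V' A B C : Subgroup G} (h : Edge φ V A B)
    (h' : Edge φ' V' B C) :
    ∃ φ'' : Cfsg.SU 3 F 2 →* G, Edge φ'' V' B C ∧ ∀ x, φ (blo x) = φ'' (bup x) := by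
  classical
  obtain ⟨-, hlo⟩ := h.injective_two hF
  obtain ⟨hup', -⟩ := h'.injective_two hF
  have hex : ∀ x, ∃ y, φ' (bup y) = φ (blo x) := fun x => by
    have : φ (blo x) ∈ (φ'.comp bup).range := by
      rw [h'.up, ← h.lo]; exact ⟨x, rfl⟩
    exact this
  choose f hf using hex
  let α₀ : Cfsg.SU 2 F 2 →* Cfsg.SU 2 F 2 := MonoidHom.mk' f fun x y => hup' (by
    show φ' (bup (f (x * y))) = φ' (bup (f x * f y))
    rw [map_mul bup, map_mul φ', hf, hf, hf, map_mul, map_mul])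
  have hα₀ : Function.Injective α₀ := fun x y e => hlo (by
    show φ (blo x) = φ (blo y)
    rw [← hf x, ← hf y]
    exact congrArg (fun z => φ' (bup z)) e)
  let α : MulAut (Cfsg.SU 2 F 2) := MulEquiv.ofBijective α₀ ⟨hα₀, Finite.surjective_of_injective hα₀⟩
  have hα : ∀ x, φ' (bup (α x)) = φ (blo x) := hf
  obtain ⟨σ, l, hl, -, hσ⟩ := semi_two hF α
  obtain ⟨δ, hδu, hδl⟩ := exists_delta hF σ hl
  have hδu' : ∀ x, δ (bup x) = bup (α x) := fun x => hδu x (α x) (hσ x).1 (hσ x).2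
  refine ⟨φ'.comp δ.toMonoidHom, ⟨?_, ?_, ?_, ?_⟩, fun x => ?_⟩
  · rw [MonoidHom.range_comp, MonoidHom.range_eq_top.2 δ.surjective, ← MonoidHom.range_eq_map, h'.range]
  · rw [← h'.up]
    refine le_antisymm ?_ ?_
    · rintro _ ⟨x, rfl⟩; exact ⟨α x, congrArg φ' (hδu' x).symm⟩
    · rintro _ ⟨x, rfl⟩
      obtain ⟨y, rfl⟩ := α.surjective x
      exact ⟨y, congrArg φ' (hδu' y)⟩
  · rw [← h'.lo]
    choose g hg using hδl
    have hg' : Function.Surjective g := Finite.surjective_of_injective fun x y e => by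
      refine blk_injective (F := F) (q := 2) (sh 1 (show 1 + 2 ≤ 3 by omega)) (δ.injective ?_)
      show δ (blo x) = δ (blo y)
      rw [hg, hg, e]
    refine le_antisymm ?_ ?_
    · rintro _ ⟨x, rfl⟩; exact ⟨g x, congrArg φ' (hg x).symm⟩
    · rintro _ ⟨x, rfl⟩
      obtain ⟨y, rfl⟩ := hg' x
      exact ⟨y, congrArg φ' (hg y)⟩
  · intro x hx
    have h1 : δ x ∈ Subgroup.center _ := h'.ker hx
    rw [Subgroup.mem_center_iff] at h1 ⊢
    exact fun g => δ.injective (by rw [map_mul, map_mul, h1])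
  · show φ (blo x) = φ' (δ (bup x))
    rw [hδu', hα]

/-- the edges can be chosen coherently -/
theorem exists_coherent_two (U : ℕ → Subgroup G) (V : ℕ → Subgroup G) (m : ℕ)
    (hV : ∀ p < m, Cfsg.IsStandardUnitaryPair (V p) (U p) (U (p + 1)) F 2) :
    ∃ Φ : ℕ → (Cfsg.SU 3 F 2 →* G), (∀ p < m, Edge (Φ p) (V p) (U p) (U (p + 1))) ∧
      ∀ p, p + 1 < m → ∀ x, Φ p (blo x) = Φ (p + 1) (bup x) := by
  classical
  induction m with
  | zero => exact ⟨fun _ => 1, fun p hp => absurd hp (by omega), fun p hp => absurd hp (by omega)⟩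
  | succ m ih =>
    obtain ⟨Φ, hΦ, hglue⟩ := ih (fun p hp => hV p (by omega))
    obtain ⟨φ', hφ'⟩ := exists_edge hF (hV m (by omega))
    have key : ∃ φ'', Edge φ'' (V m) (U m) (U (m + 1)) ∧ ∀ p, p + 1 = m → ∀ x, Φ p (blo x) = φ'' (bup x) := by
      rcases m with _ | m
      · exact ⟨φ', hφ', fun p hp => absurd hp (by omega)⟩
      · obtain ⟨φ'', h1, h2⟩ := exists_adjust_two hF (hΦ m (by omega)) hφ'
        refine ⟨φ'', h1, fun p hp => ?_⟩
        obtain rfl : p = m := by omega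
        exact h2
    obtain ⟨φ'', h1, h2⟩ := key
    refine ⟨fun p => if p = m then φ'' else Φ p, fun p hp => ?_, fun p hp x => ?_⟩
    · dsimp only
      split_ifs with h
      · subst h; exact h1
      · exact hΦ p (by omega)
    · dsimp only
      rw [if_neg (show p ≠ m by omega)]
      split_ifs with h
      · exact h2 p h x
      · exact hglue p (by omega) x

/-- extension from windows -/
theorem exists_extends_two : ∀ (N : ℕ), 4 ≤ N → ∀ C : Chain G F 2 N,
    (∀ p r, (p + 2 ≤ r ∧ r + 3 ≤ N) ∨ (r + 3 ≤ p ∧ p + 2 ≤ N) → ∀ x y, Commute (C.ψ p x) (C.φ r y)) →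
    (∀ p r, p + 3 ≤ r → r + 3 ≤ N → ∀ x y, Commute (C.φ p x) (C.φ r y)) →
    (∀ s, s + 4 ≤ N → ∃ f : Cfsg.SU 4 F 2 →* G,
      ∀ (p : ℕ) (h : p + 3 ≤ 4) (x : Cfsg.SU 3 F 2), f (blkAt p h x) = C.φ (s + p) x) →
    ∃ f, Extends C f := by
  intro N hN
  induction N, hN using Nat.le_induction with
  | base =>
    intro C _ _ h4
    obtain ⟨f, hf⟩ := h4 0 le_rfl
    exact ⟨f, fun p h x => by rw [hf p h x, Nat.zero_add]⟩
  | succ N hN ih =>
    intro C hpf hff h4
    obtain ⟨f₀, h₀⟩ := ih C.tail (fun p r h => hpf (p + 1) (r + 1) (by omega))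
      (fun p r h h' => hff (p + 1) (r + 1) (by omega) (by omega)) fun s hs => by
      obtain ⟨f, hf⟩ := h4 (s + 1) (by omega)
      exact ⟨f, fun p h x => by rw [hf p h x, Nat.add_right_comm]; rfl⟩
    obtain ⟨fw, hfw⟩ := h4 0 (by omega)
    exact exists_extends_succ_two hF hN C hpf hff (fun p h x => by rw [hfw p h x, Nat.zero_add]) h₀

end CfsgLib.Phan
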