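import Cfsg.Agent.Lib.Recog.Phan.Two.Base
import Cfsg.Agent.Lib.Recog.Phan.Three

/-!
# The structure of `SU 3` over the field with four elements

It is an extraspecial group of order `27` extended by a quaternion group.  We record generators, the normality of
the normal three-subgroup and the facts that follow from them.
-/

set_option autoImplicit false

namespace CfsgLib.Phan

open CfsgLib.Classical CfsgLib.Classical.Herm CfsgLib.Known.SUBounded

universe u v

variable {F : Type u} [Field F] [Fintype F] (hF : Fintype.card F = 2 ^ 2)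
include hF

theorem neg_eq (a : F) : -a = a := by linear_combination (-a) * two_eq_zero_four hF

theorem four_cases {w : F} (hw : w * w + w + 1 = 0) (a : F) : a = 0 ∨ a = 1 ∨ a = w ∨ a = w * w := by
  rcases eq_or_ne a 0 with h | h
  · exact Or.inl h
  have h3 := cube_eq_one hF h
  have e : (a - 1) * ((a - w) * (a - w * w)) = 0 := by
    linear_combination h3 + (a - a * a - (w - 1) * (1 - a)) * hw
  rcases mul_eq_zero.1 e with e | e
  · exact Or.inr (Or.inl (sub_eq_zero.1 e))
  rcases mul_eq_zero.1 e with e | e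
  · exact Or.inr (Or.inr (Or.inl (sub_eq_zero.1 e)))
  · exact Or.inr (Or.inr (Or.inr (sub_eq_zero.1 e)))

theorem rot_val : (rot hF : Cfsg.SU 2 F 2).1.1 = !![0, 1; 1, 0] := by
  ext i j
  fin_cases i <;> fin_cases j <;> simp [rot, su2, neg_eq hF]

theorem dia_val {a : F} (ha : a * a ^ 2 = 1) : (dia hF a ha).1.1 = !![a, 0; 0, a ^ 2] := by
  ext i j
  fin_cases i <;> fin_cases j <;> simp [dia, su2]

/-- an element of `SU 2` is diagonal or antidiagonal -/
theorem su2_cases (x : Cfsg.SU 2 F 2) :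
    ∃ (a : F) (ha : a * a ^ 2 = 1), x = dia hF a ha ∨ x = dia hF a ha * rot hF := by
  obtain ⟨h00, h01, h11⟩ := su2_entries hF x
  have h2 := two_eq_zero_four hF
  by_cases hb : x.1.1 1 0 = 0
  · obtain ⟨a, ha, -, e⟩ := eq_dia hF (show IsDia x from hb)
    exact ⟨a, ha, Or.inl e⟩
  · have hb1 := norm_one hF hb
    have ha0 : x.1.1 0 0 = 0 := by
      by_contra h
      exact one_ne_zero (show (1 : F) = 0 by linear_combination h00 - norm_one hF h - hb1)
    refine ⟨(x.1.1 1 0) ^ 2, norm_one hF (pow_ne_zero _ hb), Or.inr (Subtype.ext (Subtype.ext ?_))⟩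
    show x.1.1 = (dia hF _ _).1.1 * (rot hF).1.1
    rw [dia_val, rot_val]
    have h4 : ((x.1.1 1 0) ^ 2) ^ 2 = x.1.1 1 0 := by linear_combination (x.1.1 1 0) * hb1
    ext i j
    fin_cases i <;> fin_cases j <;>
      simp [Matrix.mul_apply, Fin.sum_univ_two, ha0, h01, h11, h4, neg_eq hF]

/-- a diagonal element of `SU 3` -/
def diag3 {a b : F} (ha : a * a ^ 2 = 1) (hb : b * b ^ 2 = 1) : Cfsg.SU 3 F 2 :=
  bup (dia hF a ha) * blo (dia hF (a * b) (by rw [mul_pow, mul_mul_mul_comm, ha, hb, one_mul]))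

theorem diag3_val {a b : F} (ha : a * a ^ 2 = 1) (hb : b * b ^ 2 = 1) :
    (diag3 hF ha hb).1.1 = !![a, 0, 0; 0, b, 0; 0, 0, (a * b) ^ 2] := by
  show (bup _).1.1 * (blo _).1.1 = _
  rw [bup_val, blo_val, dia_val, dia_val]
  ext i j
  fin_cases i <;> fin_cases j <;> simp [Matrix.mul_apply, Fin.sum_univ_three]
  linear_combination b * ha

theorem cyc_eq : cyc F 2 = bup (rot hF) * blo (rot hF) := by
  refine Subtype.ext (Subtype.ext ?_)
  show _ = (bup _).1.1 * (blo _).1.1
  rw [bup_val, blo_val, rot_val]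
  ext i j
  fin_cases i <;> fin_cases j <;> simp [cyc, Matrix.mul_apply, Fin.sum_univ_three]

omit hF in
/-- the monomial subgroup -/
def Mon : Subgroup (Cfsg.SU 3 F 2) := (bup : Cfsg.SU 2 F 2 →* _).range ⊔ (blo : Cfsg.SU 2 F 2 →* _).range

theorem diag3_mem_mon {a b : F} (ha : a * a ^ 2 = 1) (hb : b * b ^ 2 = 1) : diag3 hF ha hb ∈ Mon (F := F) :=
  mul_mem (Subgroup.mem_sup_left ⟨_, rfl⟩) (Subgroup.mem_sup_right ⟨_, rfl⟩)

theorem cyc_mem_mon : cyc F 2 ∈ Mon (F := F) := by
  rw [cyc_eq hF]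
  exact mul_mem (Subgroup.mem_sup_left ⟨_, rfl⟩) (Subgroup.mem_sup_right ⟨_, rfl⟩)

/-- the conjugates of the Fourier matrix -/
theorem exists_four {w c : F} (hw : w * w + w + 1 = 0) (hc : c ≠ 0) :
    ∃ x : Cfsg.SU 3 F 2, x.1.1 = !![1, 1, c ^ 2; 1, w, w * w * c ^ 2; c, c * (w * w), w] := by
  have h2 := two_eq_zero_four hF
  have hc3 := cube_eq_one hF hc
  have h3 : w ^ 3 = 1 := by linear_combination (w - 1) * hw
  refine ⟨⟨⟨_, ?_⟩, ?_⟩, rfl⟩
  · rw [Matrix.det_fin_three]
    simp
    grind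
  · intro u v
    show Cfsg.hermForm 3 F 2 ((!![1, 1, c ^ 2; 1, w, w * w * c ^ 2; c, c * (w * w), w] :
      Matrix (Fin 3) (Fin 3) F).mulVec u) ((!![1, 1, c ^ 2; 1, w, w * w * c ^ 2; c, c * (w * w), w] :
      Matrix (Fin 3) (Fin 3) F).mulVec v) = _
    simp [Cfsg.hermForm, Matrix.mulVec, dotProduct, Fin.sum_univ_three]
    grind

/-- a fixed choice of the root of unity -/
noncomputable def om : F := (exists_omega hF).choose

theorem om_eq : om hF * om hF + om hF + 1 = 0 := (exists_omega hF).choose_spec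

theorem om_ne : om hF ≠ 0 := fun e => by have := om_eq hF; rw [e] at this; simp at this

theorem om_ne_one : om hF ≠ 1 := fun e => by
  have := om_eq hF
  rw [e] at this
  exact one_ne_zero (show (1 : F) = 0 by linear_combination this - two_eq_zero_four hF)

theorem om_sq_ne_one : om hF * om hF ≠ 1 := fun e =>
  om_ne hF (by linear_combination om_eq hF - e - two_eq_zero_four hF)

theorem om_norm : om hF * om hF ^ 2 = 1 := norm_one hF (om_ne hF)

/-- the Fourier element with parameter `c` -/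
noncomputable def four {c : F} (hc : c ≠ 0) : Cfsg.SU 3 F 2 := (exists_four hF (om_eq hF) hc).choose

theorem four_val {c : F} (hc : c ≠ 0) : (four hF hc).1.1 =
    !![1, 1, c ^ 2; 1, om hF, om hF * om hF * c ^ 2; c, c * (om hF * om hF), om hF] :=
  (exists_four hF (om_eq hF) hc).choose_spec

theorem ext3 {x y : Cfsg.SU 3 F 2} (h : x.1.1 = y.1.1) : x = y := Subtype.ext (Subtype.ext h)

theorem four_sq {c : F} (hc : c ≠ 0) :
    (four hF hc * four hF hc).1.1 = !![1, 0, 0; 0, 0, c ^ 2; 0, c, 0] := by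
  show (four hF hc).1.1 * (four hF hc).1.1 = _
  have h2 := two_eq_zero_four hF
  have hw := om_eq hF
  have hc3 := cube_eq_one hF hc
  rw [four_val]
  ext i j
  fin_cases i <;> fin_cases j <;> simp [Matrix.mul_apply, Fin.sum_univ_three] <;> grind

theorem four_pow {c : F} (hc : c ≠ 0) : (four hF hc * four hF hc) * (four hF hc * four hF hc) = 1 := by
  have hc3 := cube_eq_one hF hc
  refine ext3 hF ?_
  show (four hF hc * four hF hc).1.1 * (four hF hc * four hF hc).1.1 = _
  rw [four_sq]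
  ext i j
  fin_cases i <;> fin_cases j <;> simp [Matrix.mul_apply, Fin.sum_univ_three] <;> linear_combination hc3

/-- every element is monomial or involves one Fourier element -/
theorem exists_decomp (x : Cfsg.SU 3 F 2) : x ∈ Mon ∨ ∃ (a b c : F) (ha : a * a ^ 2 = 1) (hb : b * b ^ 2 = 1)
    (hc : c ≠ 0) (A : Cfsg.SU 2 F 2), x = diag3 hF ha hb * four hF hc * blo A := by
  obtain ⟨v, hv⟩ : ∃ v, v = act x (std 0) := ⟨_, rfl⟩
  have hn : hermStd 3 hF v v = 1 := by rw [hv, act_form, std_orth, if_pos rfl]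
  rw [hermStd_apply, Cfsg.hermForm, Fin.sum_univ_three] at hn
  have h2 := two_eq_zero_four hF
  suffices ∃ y, act y (std 0) = v ∧ (y ∈ Mon ∨ ∃ (a b c : F) (ha : a * a ^ 2 = 1) (hb : b * b ^ 2 = 1)
      (hc : c ≠ 0), y = diag3 hF ha hb * four hF hc) by
    obtain ⟨y, hyv, hy⟩ := this
    obtain ⟨A, hA⟩ := exists_emb hF (k := 2) (g := y⁻¹ * x) (by rw [act_mul, ← hv, act_inv_eq hyv])
    rw [show x = y * emb 2 A by rw [hA]; group, emb_eq]
    rcases hy with hy | ⟨a, b, c, ha, hb, hc, rfl⟩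
    · exact Or.inl (mul_mem hy (Subgroup.mem_sup_right ⟨A, rfl⟩))
    · exact Or.inr ⟨a, b, c, ha, hb, hc, A, rfl⟩
  have hz : ∀ i, v i = 0 ∨ v i * v i ^ 2 = 1 := fun i => (eq_or_ne (v i) 0).imp_right fun h => norm_one hF h
  have one0 : ∀ a : F, a * a ^ 2 = 1 → a ≠ 0 := fun a ha => left_ne_zero_of_mul_eq_one ha
  have d1 : ∀ {a : F} (ha : a * a ^ 2 = 1), act (bup (dia hF a ha)) (std 0) = ![a, 0, 0] := fun ha => by
    funext i
    fin_cases i <;> simp [act, bup_val, dia_val, std, Matrix.mulVec_single]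
  have dc : ∀ {a : F}, act (cyc F 2) ![a, 0, 0] = ![0, a, 0] := fun {a} => by
    funext i
    fin_cases i <;> simp [act, cyc, Matrix.mulVec, dotProduct, Fin.sum_univ_three]
  have dcc : ∀ {a : F}, act (cyc F 2) ![0, a, 0] = ![0, 0, a] := fun {a} => by
    funext i
    fin_cases i <;> simp [act, cyc, Matrix.mulVec, dotProduct, Fin.sum_univ_three]
  rcases hz 0 with a0 | a1 <;> rcases hz 1 with b0 | b1 <;> rcases hz 2 with c0 | c1
  · rw [a0, b0, c0] at hn; simp at hn
  · refine ⟨cyc F 2 * (cyc F 2 * bup (dia hF _ c1)),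
      ?_, Or.inl (mul_mem (cyc_mem_mon hF) (mul_mem (cyc_mem_mon hF) (Subgroup.mem_sup_left ⟨_, rfl⟩)))⟩
    rw [act_mul, act_mul, d1, dc, dcc]
    funext i
    fin_cases i <;> simp [a0, b0]
  · refine ⟨cyc F 2 * bup (dia hF _ b1), ?_, Or.inl (mul_mem (cyc_mem_mon hF) (Subgroup.mem_sup_left ⟨_, rfl⟩))⟩
    rw [act_mul, d1, dc]
    funext i
    fin_cases i <;> simp [a0, c0]
  · rw [a0, b1, c1] at hn; simp at hn
  · refine ⟨bup (dia hF _ a1), ?_, Or.inl (Subgroup.mem_sup_left ⟨_, rfl⟩)⟩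
    rw [d1]
    funext i
    fin_cases i <;> simp [b0, c0]
  · rw [a1, b0, c1] at hn; simp at hn
  · rw [a1, b1, c0] at hn; simp at hn
  · have hc : v 0 * v 1 * v 2 ≠ 0 := mul_ne_zero (mul_ne_zero (one0 _ a1) (one0 _ b1)) (one0 _ c1)
    refine ⟨diag3 hF a1 b1 * four hF hc, ?_, Or.inr ⟨_, _, _, a1, b1, hc, rfl⟩⟩
    funext i
    rw [act_mul]
    fin_cases i <;> simp [act, diag3_val, four_val, std, Matrix.mulVec_single, Matrix.mulVec, dotProduct,
      Fin.sum_univ_three]
    linear_combination (v 1 * v 1 ^ 2 * v 2) * a1 + (v 2) * b1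

/-- the monomial elements and the Fourier elements generate -/
theorem gen_mon_four (H : Subgroup (Cfsg.SU 3 F 2)) (hM : Mon ≤ H)
    (h4 : ∀ (c : F) (hc : c ≠ 0), four hF hc ∈ H) : H = ⊤ := by
  rw [eq_top_iff]
  intro x _
  rcases exists_decomp hF x with hx | ⟨a, b, c, ha, hb, hc, A, rfl⟩
  · exact hM hx
  · exact mul_mem (mul_mem (hM (diag3_mem_mon hF ha hb)) (h4 c hc)) (hM (Subgroup.mem_sup_right ⟨A, rfl⟩))

/-- homomorphisms into the multiplicative monoid of a field with four elements are trivial -/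
theorem hom_four_one (χ : Cfsg.SU 3 F 2 →* F) (x : Cfsg.SU 3 F 2) : χ x = 1 := by
  have hone : ∀ a : F, a * a = 1 → a = 1 := fun a e => by
    have h3 := cube_eq_one hF (left_ne_zero_of_mul_eq_one e)
    linear_combination h3 - a * e
  have hu : ∀ x, χ x ≠ 0 := fun x e => by
    have := map_mul χ x x⁻¹
    rw [mul_inv_cancel, map_one, e, zero_mul] at this
    exact one_ne_zero this
  have h2 : ∀ (ι : Cfsg.SU 2 F 2 →* Cfsg.SU 3 F 2) (y : Cfsg.SU 2 F 2), χ (ι y) = 1 := by
    intro ι y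
    have hr : χ (ι (rot hF)) = 1 := hone _ (by
      rw [← map_mul, ← map_mul, show rot hF * rot hF = (1 : Cfsg.SU 2 F 2) from Subtype.ext (Subtype.ext (by
        show (rot hF).1.1 * (rot hF).1.1 = _
        rw [rot_val]
        ext i j
        fin_cases i <;> fin_cases j <;> simp)), map_one, map_one])
    have hd : ∀ (a : F) (ha : a * a ^ 2 = 1), χ (ι (dia hF a ha)) = 1 := fun a ha => by
      refine hone _ ?_
      have e : dia hF a ha * rot hF * dia hF a ha = rot hF := by
        refine Subtype.ext (Subtype.ext ?_)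
        show (dia hF a ha).1.1 * (rot hF).1.1 * (dia hF a ha).1.1 = _
        rw [rot_val, dia_val]
        ext i j
        fin_cases i <;> fin_cases j <;> simp <;> linear_combination ha
      have := congrArg (fun y => χ (ι y)) e
      simp only [map_mul, hr, mul_one] at this
      exact this
    obtain ⟨a, ha, rfl | rfl⟩ := su2_cases hF y
    · exact hd a ha
    · rw [map_mul, map_mul, hd, hr, one_mul]
  let H : Subgroup (Cfsg.SU 3 F 2) :=
    { carrier := {x | χ x = 1}
      one_mem' := map_one χ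
      mul_mem' := fun {a b} ha hb => by simp only [Set.mem_ofPred_eq] at *; rw [map_mul, ha, hb, one_mul]
      inv_mem' := fun {a} ha => by
        simp only [Set.mem_ofPred_eq] at *
        have := map_mul χ a a⁻¹
        rwa [mul_inv_cancel, map_one, ha, one_mul, eq_comm] at this }
  have hH : H = ⊤ := gen_mon_four hF H (sup_le (by rintro _ ⟨y, rfl⟩; exact h2 bup y)
    (by rintro _ ⟨y, rfl⟩; exact h2 blo y)) fun c hc => by
    show χ (four hF hc) = 1
    have e4 : (χ (four hF hc) * χ (four hF hc)) * (χ (four hF hc) * χ (four hF hc)) = 1 := by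
      rw [← map_mul, ← map_mul, four_pow, map_one]
    linear_combination e4 - χ (four hF hc) * cube_eq_one hF (hu (four hF hc))
  exact (hH ▸ Subgroup.mem_top x : x ∈ H)

end CfsgLib.Phan
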