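import Cfsg.Agent.Lib.Recog.Phan.Two.Mon

/-!
# The normal subgroup of order twenty-seven of `SU 3` over four elements
-/

set_option autoImplicit false

namespace CfsgLib.Phan

open CfsgLib.Classical CfsgLib.Classical.Herm CfsgLib.Known.SUBounded

universe u v

variable {F : Type u} [Field F] [Fintype F] (hF : Fintype.card F = 2 ^ 2)
include hF

theorem one_norm : (1 : F) * 1 ^ 2 = 1 := by norm_num

/-- the scalar generator of the centre -/
noncomputable def zz : Cfsg.SU 3 F 2 := diag3 hF (om_norm hF) (om_norm hF)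

/-- the diagonal generator fixing the first vector -/
noncomputable def dd : Cfsg.SU 3 F 2 := diag3 hF (one_norm hF) (om_norm hF)

/-- the normal three-subgroup -/
noncomputable def Esub : Subgroup (Cfsg.SU 3 F 2) := Subgroup.closure {zz hF, dd hF, cyc F 2}

theorem zz_mem : zz hF ∈ Esub hF := Subgroup.subset_closure (by simp)

theorem dd_mem : dd hF ∈ Esub hF := Subgroup.subset_closure (by simp)

theorem cyc_mem : cyc F 2 ∈ Esub hF := Subgroup.subset_closure (by simp)

theorem diag3_mul {a b a' b' : F} (ha : a * a ^ 2 = 1) (hb : b * b ^ 2 = 1) (ha' : a' * a' ^ 2 = 1)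
    (hb' : b' * b' ^ 2 = 1) :
    diag3 hF ha hb * diag3 hF ha' hb' =
      diag3 hF (show a * a' * (a * a') ^ 2 = 1 by rw [mul_pow, mul_mul_mul_comm, ha, ha', one_mul])
        (show b * b' * (b * b') ^ 2 = 1 by rw [mul_pow, mul_mul_mul_comm, hb, hb', one_mul]) := by
  refine ext3 hF ?_
  show (diag3 hF ha hb).1.1 * (diag3 hF ha' hb').1.1 = _
  rw [diag3_val, diag3_val, diag3_val]
  ext i j
  fin_cases i <;> fin_cases j <;> simp
  ring

theorem diag3_congr {a b a' b' : F} (ha : a * a ^ 2 = 1) (hb : b * b ^ 2 = 1) (ha' : a' * a' ^ 2 = 1)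
    (hb' : b' * b' ^ 2 = 1) (h : a = a') (h' : b = b') : diag3 hF ha hb = diag3 hF ha' hb' := by
  subst h h'; rfl

theorem diag3_mem {a b : F} (ha : a * a ^ 2 = 1) (hb : b * b ^ 2 = 1) : diag3 hF ha hb ∈ Esub hF := by
  have hw := om_eq hF
  have h3 : om hF * om hF ^ 2 = 1 := om_norm hF
  have h2 := two_eq_zero_four hF
  have hw2 : (om hF * om hF) * (om hF * om hF) ^ 2 = 1 := by linear_combination (om hF * om hF ^ 2 + 1) * h3
  have one : diag3 hF (one_norm hF) (one_norm hF) = 1 := ext3 hF (by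
    rw [diag3_val]
    ext i j
    fin_cases i <;> fin_cases j <;> simp)
  -- second coordinate
  have hB : ∀ (b : F) (hb : b * b ^ 2 = 1), diag3 hF (one_norm hF) hb ∈ Esub hF := by
    intro b hb
    rcases four_cases hF hw b with rfl | rfl | rfl | rfl
    · simp at hb
    · rw [one]; exact one_mem _
    · exact dd_mem hF
    · rw [show diag3 hF (one_norm hF) hb = dd hF * dd hF by
        rw [dd, diag3_mul]; exact diag3_congr hF _ _ _ _ (one_mul 1).symm rfl]
      exact mul_mem (dd_mem hF) (dd_mem hF)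
  have hA : ∀ (a : F) (ha : a * a ^ 2 = 1), diag3 hF ha (one_norm hF) ∈ Esub hF := by
    intro a ha
    have hw1 : diag3 hF (om_norm hF) (one_norm hF) ∈ Esub hF := by
      rw [show diag3 hF (om_norm hF) (one_norm hF) = zz hF * (dd hF * dd hF) by
        rw [dd, zz, diag3_mul, diag3_mul]
        exact diag3_congr hF _ _ _ _ (by ring) (by linear_combination -h3)]
      exact mul_mem (zz_mem hF) (mul_mem (dd_mem hF) (dd_mem hF))
    rcases four_cases hF hw a with rfl | rfl | rfl | rfl
    · simp at ha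
    · rw [one]; exact one_mem _
    · exact hw1
    · rw [show diag3 hF ha (one_norm hF) = diag3 hF (om_norm hF) (one_norm hF) * diag3 hF (om_norm hF) (one_norm hF) by
        rw [diag3_mul]; exact diag3_congr hF _ _ _ _ rfl (one_mul 1).symm]
      exact mul_mem hw1 hw1
  rw [show diag3 hF ha hb = diag3 hF ha (one_norm hF) * diag3 hF (one_norm hF) hb by
    rw [diag3_mul]; exact diag3_congr hF _ _ _ _ (mul_one a).symm (one_mul b).symm]
  exact mul_mem (hA a ha) (hB b hb)

theorem bup_dia_mem {a : F} (ha : a * a ^ 2 = 1) : bup (dia hF a ha) ∈ Esub hF := by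
  rw [show bup (dia hF a ha) = diag3 hF ha (show a ^ 2 * (a ^ 2) ^ 2 = 1 by
    linear_combination (a * a ^ 2 + 1) * ha) from ext3 hF (by
      rw [bup_val, dia_val, diag3_val]
      ext i j
      fin_cases i <;> fin_cases j <;> simp
      linear_combination -(a * a ^ 2 + 1) * ha)]
  exact diag3_mem hF _ _

theorem blo_dia_mem {a : F} (ha : a * a ^ 2 = 1) : blo (dia hF a ha) ∈ Esub hF := by
  rw [show blo (dia hF a ha) = diag3 hF (one_norm hF) ha from ext3 hF (by
      rw [blo_val, dia_val, diag3_val]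
      ext i j
      fin_cases i <;> fin_cases j <;> simp)]
  exact diag3_mem hF _ _

theorem four_dd {c : F} (hc : c ≠ 0) :
    four hF hc * dd hF = diag3 hF (one_norm hF) (norm_one hF (pow_ne_zero 2 hc)) * cyc F 2 * cyc F 2 *
      four hF hc := by
  have hw := om_eq hF
  have h2 := two_eq_zero_four hF
  have hc3 := cube_eq_one hF hc
  refine ext3 hF ?_
  show (four hF hc).1.1 * (dd hF).1.1 = (diag3 hF _ _).1.1 * (cyc F 2).1.1 * (cyc F 2).1.1 * (four hF hc).1.1
  rw [four_val, dd, diag3_val, diag3_val]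
  ext i j
  fin_cases i <;> fin_cases j <;> simp [cyc] <;> grind

theorem four_cyc {c : F} (hc : c ≠ 0) :
    four hF hc * cyc F 2 =
      dd hF * four hF hc * diag3 hF (one_norm hF) (norm_one hF (pow_ne_zero 2 hc)) := by
  have hw := om_eq hF
  have h2 := two_eq_zero_four hF
  have hc3 := cube_eq_one hF hc
  refine ext3 hF ?_
  show (four hF hc).1.1 * (cyc F 2).1.1 = (dd hF).1.1 * (four hF hc).1.1 * (diag3 hF _ _).1.1
  rw [four_val, dd, diag3_val, diag3_val]
  ext i j
  fin_cases i <;> fin_cases j <;> simp [cyc] <;> grind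

theorem zz_comm (x : Cfsg.SU 3 F 2) : x * zz hF = zz hF * x := by
  have h3 : om hF * om hF ^ 2 = 1 := om_norm hF
  refine ext3 hF ?_
  show x.1.1 * (zz hF).1.1 = (zz hF).1.1 * x.1.1
  rw [zz, diag3_val, show ((om hF * om hF) ^ 2 : F) = om hF by linear_combination om hF * h3]
  ext i j
  fin_cases i <;> fin_cases j <;> simp [Matrix.mul_apply, Fin.sum_univ_three, mul_comm]

theorem zz_central : zz hF ∈ Subgroup.center (Cfsg.SU 3 F 2) := Subgroup.mem_center_iff.2 (zz_comm hF)

theorem conj_mem_of_gens {x : Cfsg.SU 3 F 2} (h1 : x * dd hF * x⁻¹ ∈ Esub hF)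
    (h2 : x * cyc F 2 * x⁻¹ ∈ Esub hF) (y : Cfsg.SU 3 F 2) (hy : y ∈ Esub hF) : x * y * x⁻¹ ∈ Esub hF := by
  have : Esub hF ≤ (Esub hF).comap (MulAut.conj x).toMonoidHom := (Subgroup.closure_le _).2 (by
    rintro _ (rfl | rfl | rfl)
    · show x * zz hF * x⁻¹ ∈ Esub hF
      rw [zz_comm, mul_inv_cancel_right]; exact zz_mem hF
    · exact h1
    · exact h2)
  exact this hy

theorem Esub_conj (x y : Cfsg.SU 3 F 2) (hy : y ∈ Esub hF) : x * y * x⁻¹ ∈ Esub hF := by
  let N : Subgroup (Cfsg.SU 3 F 2) :=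
    { carrier := {x | ∀ y ∈ Esub hF, x * y * x⁻¹ ∈ Esub hF}
      one_mem' := fun y hy => by simpa using hy
      mul_mem' := fun {a b} ha hb y hy => by
        have := ha _ (hb y hy)
        rwa [show a * (b * y * b⁻¹) * a⁻¹ = a * b * y * (a * b)⁻¹ by group] at this
      inv_mem' := fun {a} ha y hy => by
        have hinj : Function.Injective (fun z : Esub hF => (⟨a * z * a⁻¹, ha _ z.2⟩ : Esub hF)) := fun z z' e => by
          have := congrArg Subtype.val e
          exact Subtype.ext (mul_left_cancel (mul_right_cancel this))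
        obtain ⟨z, hz⟩ := Finite.surjective_of_injective hinj ⟨y, hy⟩
        have : a * z * a⁻¹ = y := congrArg Subtype.val hz
        rw [← this, show a⁻¹ * (a * z * a⁻¹) * a⁻¹⁻¹ = (z : Cfsg.SU 3 F 2) by group]
        exact z.2 }
  suffices hN : N = ⊤ from (hN.ge (Subgroup.mem_top x) : x ∈ N) y hy
  have hd : ∀ (a b : F) (ha : a * a ^ 2 = 1) (hb : b * b ^ 2 = 1), diag3 hF ha hb ∈ N := by
    intro a b ha hb y hy
    exact mul_mem (mul_mem (diag3_mem hF ha hb) hy) (inv_mem (diag3_mem hF ha hb))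
  refine gen_mon_four hF N (sup_le ?_ ?_) fun c hc => ?_
  · rintro _ ⟨A, rfl⟩
    have hr : bup (rot hF) ∈ N := fun y hy => by
      refine conj_mem_of_gens hF ?_ ?_ y hy <;> rw [← map_inv]
      · rw [show bup (rot hF) * dd hF * bup (rot hF)⁻¹ = diag3 hF (om_norm hF) (one_norm hF) by
          rw [map_inv, mul_inv_eq_iff_eq_mul]
          refine ext3 hF ?_
          show (bup (rot hF)).1.1 * (dd hF).1.1 = (diag3 hF _ _).1.1 * (bup (rot hF)).1.1
          rw [bup_val, rot_val, dd, diag3_val, diag3_val]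
          ext i j
          fin_cases i <;> fin_cases j <;> simp]
        exact diag3_mem hF _ _
      · rw [show bup (rot hF) * cyc F 2 * bup (rot hF)⁻¹ = cyc F 2 * cyc F 2 by
          rw [map_inv, mul_inv_eq_iff_eq_mul]
          refine ext3 hF ?_
          show (bup (rot hF)).1.1 * (cyc F 2).1.1 = (cyc F 2).1.1 * (cyc F 2).1.1 * (bup (rot hF)).1.1
          rw [bup_val, rot_val]
          ext i j
          fin_cases i <;> fin_cases j <;> simp [cyc]]
        exact mul_mem (cyc_mem hF) (cyc_mem hF)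
    obtain ⟨a, ha, rfl | rfl⟩ := su2_cases hF A
    · exact fun y hy => mul_mem (mul_mem (bup_dia_mem hF ha) hy) (inv_mem (bup_dia_mem hF ha))
    · rw [map_mul]
      exact mul_mem (fun y hy => mul_mem (mul_mem (bup_dia_mem hF ha) hy) (inv_mem (bup_dia_mem hF ha))) hr
  · rintro _ ⟨A, rfl⟩
    have hr : blo (rot hF) ∈ N := fun y hy => by
      have h3 := om_norm hF
      refine conj_mem_of_gens hF ?_ ?_ y hy <;> rw [← map_inv]
      · rw [show blo (rot hF) * dd hF * blo (rot hF)⁻¹ =
            diag3 hF (one_norm hF) (norm_one hF (pow_ne_zero 2 (om_ne hF))) by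
          rw [map_inv, mul_inv_eq_iff_eq_mul]
          refine ext3 hF ?_
          show (blo (rot hF)).1.1 * (dd hF).1.1 = (diag3 hF _ _).1.1 * (blo (rot hF)).1.1
          rw [blo_val, rot_val, dd, diag3_val, diag3_val]
          ext i j
          fin_cases i <;> fin_cases j <;> simp
          linear_combination -(om hF) * h3]
        exact diag3_mem hF _ _
      · rw [show blo (rot hF) * cyc F 2 * blo (rot hF)⁻¹ = cyc F 2 * cyc F 2 by
          rw [map_inv, mul_inv_eq_iff_eq_mul]
          refine ext3 hF ?_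
          show (blo (rot hF)).1.1 * (cyc F 2).1.1 = (cyc F 2).1.1 * (cyc F 2).1.1 * (blo (rot hF)).1.1
          rw [blo_val, rot_val]
          ext i j
          fin_cases i <;> fin_cases j <;> simp [cyc]]
        exact mul_mem (cyc_mem hF) (cyc_mem hF)
    obtain ⟨a, ha, rfl | rfl⟩ := su2_cases hF A
    · exact fun y hy => mul_mem (mul_mem (blo_dia_mem hF ha) hy) (inv_mem (blo_dia_mem hF ha))
    · rw [map_mul]
      exact mul_mem (fun y hy => mul_mem (mul_mem (blo_dia_mem hF ha) hy) (inv_mem (blo_dia_mem hF ha))) hr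
  · intro y hy
    obtain ⟨h, hh⟩ : ∃ h, h = four hF hc := ⟨_, rfl⟩
    have k1 : h * dd hF * h⁻¹ ∈ Esub hF := by
      rw [hh, four_dd, mul_inv_cancel_right]
      exact mul_mem (mul_mem (diag3_mem hF _ _) (cyc_mem hF)) (cyc_mem hF)
    have k0 : ∀ (b : F) (hb : b * b ^ 2 = 1), h * diag3 hF (one_norm hF) hb * h⁻¹ ∈ Esub hF := by
      intro b hb
      rcases four_cases hF (om_eq hF) b with rfl | rfl | rfl | rfl
      · simp at hb
      · rw [show diag3 hF (one_norm hF) hb = 1 from ext3 hF (by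
          rw [diag3_val]
          ext i j
          fin_cases i <;> fin_cases j <;> simp), mul_one, mul_inv_cancel]
        exact one_mem _
      · exact k1
      · rw [show diag3 hF (one_norm hF) hb = dd hF * dd hF by
          rw [dd, diag3_mul]; exact diag3_congr hF _ _ _ _ (one_mul 1).symm rfl,
          show h * (dd hF * dd hF) * h⁻¹ = (h * dd hF * h⁻¹) * (h * dd hF * h⁻¹) by group]
        exact mul_mem k1 k1
    refine hh ▸ conj_mem_of_gens hF k1 ?_ y hy
    rw [hh, four_cyc, mul_assoc (dd hF), mul_assoc (dd hF)]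
    exact mul_mem (dd_mem hF) (hh ▸ k0 _ _)

instance Esub_normal : (Esub hF).Normal := ⟨fun y hy x => Esub_conj hF x y hy⟩

/-- every element to the fourth power lies in the normal subgroup -/
theorem pow_four_mem (x : Cfsg.SU 3 F 2) : x ^ 4 ∈ Esub hF := by
  let π := QuotientGroup.mk' (Esub hF)
  obtain ⟨r, hr⟩ : ∃ r, r = π (blo (rot hF)) := ⟨_, rfl⟩
  have hpi : ∀ {z}, z ∈ Esub hF → π z = 1 := fun hz => (QuotientGroup.eq_one_iff _).2 hz
  have hr2 : r * r = 1 := by
    rw [hr, ← map_mul, ← map_mul, show rot hF * rot hF = (1 : Cfsg.SU 2 F 2) from Subtype.ext (Subtype.ext (by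
      show (rot hF).1.1 * (rot hF).1.1 = _
      rw [rot_val]
      ext i j
      fin_cases i <;> fin_cases j <;> simp)), map_one, map_one]
  have hbr : π (bup (rot hF)) = r := by
    have := hpi (cyc_mem hF)
    rw [cyc_eq hF, map_mul, ← hr] at this
    rw [eq_inv_of_mul_eq_one_left this, inv_eq_of_mul_eq_one_right hr2]
  have hblo : ∀ A, π (blo A) = 1 ∨ π (blo A) = r := fun A => by
    obtain ⟨a, ha, rfl | rfl⟩ := su2_cases hF A
    · exact Or.inl (hpi (blo_dia_mem hF ha))
    · exact Or.inr (by rw [map_mul, map_mul, hpi (blo_dia_mem hF ha), one_mul, hr])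
  have hmon : Mon ≤ (Subgroup.zpowers r).comap π := sup_le (by
    rintro _ ⟨A, rfl⟩
    rw [Subgroup.mem_comap]
    obtain ⟨a, ha, rfl | rfl⟩ := su2_cases hF A
    · rw [hpi (bup_dia_mem hF ha)]; exact one_mem _
    · rw [map_mul, map_mul, hpi (bup_dia_mem hF ha), hbr, one_mul]; exact Subgroup.mem_zpowers _) (by
    rintro _ ⟨A, rfl⟩
    rw [Subgroup.mem_comap]
    rcases hblo A with e | e <;> rw [e]
    · exact one_mem _
    · exact Subgroup.mem_zpowers _)
  refine (QuotientGroup.eq_one_iff _).1 ?_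
  show π (x ^ 4) = 1
  rw [map_pow]
  rcases exists_decomp hF x with hx | ⟨a, b, c, ha, hb, hc, A, rfl⟩
  · obtain ⟨k, hk⟩ := Subgroup.mem_zpowers_iff.1 (Subgroup.mem_comap.1 (hmon hx))
    rw [← hk, ← zpow_natCast, ← zpow_mul, mul_comm, zpow_mul, zpow_natCast, show r ^ 4 = 1 by
      rw [show r ^ 4 = (r * r) * (r * r) by rw [pow_succ, pow_succ, pow_two, mul_assoc], hr2, one_mul], one_zpow]
  · rw [map_mul, map_mul, hpi (diag3_mem hF ha hb), one_mul]
    obtain ⟨t, ht⟩ : ∃ t, t = π (four hF hc) := ⟨_, rfl⟩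
    rw [← ht]
    have hq : t * t = r := by
      have e : four hF hc * four hF hc = blo (dia hF (c ^ 2) (norm_one hF (pow_ne_zero 2 hc))) * blo (rot hF) := by
        refine ext3 hF ?_
        show _ = (blo _).1.1 * (blo _).1.1
        rw [four_sq, blo_val, blo_val, dia_val, rot_val]
        ext i j
        fin_cases i <;> fin_cases j <;> simp
        linear_combination -c * cube_eq_one hF hc
      rw [ht, ← map_mul, e, map_mul, hpi (blo_dia_mem hF _), one_mul, hr]
    have ht4 : t ^ 4 = 1 := by rw [show t ^ 4 = (t * t) * (t * t) by rw [pow_succ, pow_succ, pow_two, mul_assoc], hq, hr2]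
    rcases hblo A with e | e <;> rw [e]
    · rw [mul_one, ht4]
    · rw [← hq, show (t * (t * t)) ^ 4 = (t ^ 4) ^ 3 by
        rw [show t * (t * t) = t ^ 3 by rw [pow_succ', pow_two], ← pow_mul, ← pow_mul], ht4, one_pow]

/-- the normal subgroup consists of the elements of order dividing three -/
theorem mem_of_cube {x : Cfsg.SU 3 F 2} (hx : x ^ 3 = 1) : x ∈ Esub hF := by
  have := pow_four_mem hF x
  rwa [pow_succ, hx, one_mul] at this

/-- a monomial form of the elements of the normal subgroup -/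
theorem Esub_le : Esub hF ≤ Mon := (Subgroup.closure_le _).2 (by
  rintro _ (rfl | rfl | rfl)
  · exact diag3_mem_mon hF _ _
  · exact diag3_mem_mon hF _ _
  · exact cyc_mem_mon hF)

/-- the centraliser of the normal subgroup is scalar -/
theorem scalar_of_commute {x : Cfsg.SU 3 F 2} (h1 : Commute x (dd hF)) (h2 : Commute x (cyc F 2)) :
    x.1.1 1 0 = 0 ∧ x.1.1 2 0 = 0 ∧ x ∈ Subgroup.center (Cfsg.SU 3 F 2) := by
  have hw := om_ne_one hF
  have hw2 := om_sq_ne_one hF
  obtain ⟨M, hM⟩ : ∃ M, M = x.1.1 := ⟨_, rfl⟩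
  have e1 : M * !![1, 0, 0; 0, om hF, 0; 0, 0, (1 * om hF) ^ 2] = !![1, 0, 0; 0, om hF, 0; 0, 0, (1 * om hF) ^ 2] * M := by
    have := congrArg (fun y : Cfsg.SU 3 F 2 => y.1.1) h1.eq
    change x.1.1 * (dd hF).1.1 = (dd hF).1.1 * x.1.1 at this
    rwa [dd, diag3_val, ← hM] at this
  have e2 : M * !![0, 0, 1; 1, 0, 0; 0, 1, 0] = !![0, 0, 1; 1, 0, 0; 0, 1, 0] * M := by
    rw [hM]
    exact congrArg (fun y : Cfsg.SU 3 F 2 => y.1.1) h2.eq
  have f := fun i j => congrFun (congrFun e1 i) j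
  have g := fun i j => congrFun (congrFun e2 i) j
  have f10 := f 1 0
  have f20 := f 2 0
  simp [Matrix.mul_apply, Fin.sum_univ_three] at f10 f20
  have h10 : M 1 0 = 0 := (mul_eq_zero.1 (show (om hF - 1) * M 1 0 = 0 by linear_combination -f10)).resolve_left
    (sub_ne_zero.2 hw)
  have h20 : M 2 0 = 0 := (mul_eq_zero.1 (show (om hF * om hF - 1) * M 2 0 = 0 by
    linear_combination -f20)).resolve_left (sub_ne_zero.2 hw2)
  have g00 := g 0 0
  have g01 := g 0 1
  have g10 := g 1 0
  have g11 := g 1 1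
  have g20 := g 2 0
  have g21 := g 2 1
  have g02 := g 0 2
  have g12 := g 1 2
  have g22 := g 2 2
  simp [Matrix.mul_apply, Fin.sum_univ_three] at g00 g01 g10 g11 g20 g21 g02 g12 g22
  have hscal : M = M 0 0 • 1 := by
    ext i j
    fin_cases i <;> fin_cases j <;> simp <;> grind
  refine ⟨hM ▸ h10, hM ▸ h20, Subgroup.mem_center_iff.2 fun y => ext3 hF ?_⟩
  show y.1.1 * x.1.1 = x.1.1 * y.1.1
  rw [← hM, hscal, Matrix.smul_mul, Matrix.mul_smul, Matrix.one_mul, Matrix.mul_one]

/-- homomorphisms agreeing on the monomial subgroup agree -/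
theorem eq_of_blocks {H : Type v} [Group H] {φ φ' : Cfsg.SU 3 F 2 →* H} (hinj : Function.Injective φ)
    (hr : φ'.range ≤ φ.range) (hb : ∀ z, φ (bup z) = φ' (bup z)) (hl : ∀ z, φ (blo z) = φ' (blo z)) : φ = φ' := by
  have hmon : Mon ≤ φ.eqLocus φ' := sup_le (by rintro _ ⟨z, rfl⟩; exact hb z) (by rintro _ ⟨z, rfl⟩; exact hl z)
  have hE : ∀ {z}, z ∈ Esub hF → φ z = φ' z := fun hz => hmon (Esub_le hF hz)
  choose y hy using fun x => (hr ⟨x, rfl⟩ : φ' x ∈ φ.range)
  let τ : Cfsg.SU 3 F 2 →* Cfsg.SU 3 F 2 := MonoidHom.mk' y fun a b => hinj (by rw [hy, map_mul, map_mul, hy, hy])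
  have hτ : ∀ x, ∀ m ∈ Esub hF, Commute (x⁻¹ * τ x) m := by
    intro x m hm
    have e : τ x * m * (τ x)⁻¹ = x * m * x⁻¹ := hinj (by
      rw [map_mul, map_mul, map_inv, show φ (τ x) = φ' x from hy x, hE hm, hE (Esub_conj hF x m hm), map_mul,
        map_mul, map_inv])
    refine mul_inv_eq_iff_eq_mul.1 ?_
    rw [show x⁻¹ * τ x * m * (x⁻¹ * τ x)⁻¹ = x⁻¹ * (τ x * m * (τ x)⁻¹) * x by group, e]
    group
  have hs := fun x => scalar_of_commute hF (hτ x _ (dd_mem hF)) (hτ x _ (cyc_mem hF))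
  let χ : Cfsg.SU 3 F 2 →* F :=
    { toFun := fun x => (x⁻¹ * τ x).1.1 0 0
      map_one' := by simp
      map_mul' := fun a b => by
        obtain ⟨h10, h20, hc⟩ := hs b
        rw [show (a * b)⁻¹ * τ (a * b) = (a⁻¹ * τ a) * (b⁻¹ * τ b) by
          rw [map_mul, mul_inv_rev]
          have := Subgroup.mem_center_iff.1 (hs a).2.2 b⁻¹
          calc b⁻¹ * a⁻¹ * (τ a * τ b) = (b⁻¹ * (a⁻¹ * τ a)) * τ b := by group
            _ = _ := by rw [this]; group]
        show ((a⁻¹ * τ a).1.1 * (b⁻¹ * τ b).1.1) 0 0 = _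
        rw [Matrix.mul_apply, Fin.sum_univ_three, h10, h20]
        ring }
  refine MonoidHom.ext fun x => ?_
  obtain ⟨h10, h20, hc⟩ := hs x
  have h00 : (x⁻¹ * τ x).1.1 0 0 = 1 := hom_four_one hF χ x
  have hx : x⁻¹ * τ x = 1 := by
    obtain ⟨A, hA⟩ := exists_emb hF (k := 2) (g := x⁻¹ * τ x) (by
      funext i
      fin_cases i
      · simpa [act, std, Matrix.mulVec_single] using h00
      · simpa [act, std, Matrix.mulVec_single] using h10
      · simpa [act, std, Matrix.mulVec_single] using h20)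
    rw [← hA] at hc ⊢
    rw [emb_eq]
    have := congrArg (fun z : Cfsg.SU 3 F 2 => z.1.1) (Subgroup.mem_center_iff.1 hc (cyc F 2))
    change (cyc F 2).1.1 * (emb 2 A).1.1 = (emb 2 A).1.1 * (cyc F 2).1.1 at this
    rw [emb_eq, blo_val] at this
    have k00 := congrFun (congrFun this 1) 0
    have k01 := congrFun (congrFun this 0) 2
    have k10 := congrFun (congrFun this 2) 0
    simp [cyc, Matrix.mul_apply, Fin.sum_univ_three] at k00 k01 k10
    rw [show A = 1 by
      rw [su2_eta hF A]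
      refine Subtype.ext (Subtype.ext ?_)
      ext i j
      fin_cases i <;> fin_cases j <;> simp [su2_val, ← k00, ← k10]]
    rw [map_one]
  rw [← hy x]
  exact congrArg φ (inv_mul_eq_one.1 hx)

theorem injective_of_zz {H : Type v} [Group H] {φ : Cfsg.SU 3 F 2 →* H}
    (hk : φ.ker ≤ Subgroup.center (Cfsg.SU 3 F 2)) (hz : φ (zz hF) ≠ 1) : Function.Injective φ := by
  refine (injective_iff_map_eq_one φ).2 fun x hx => ?_
  have hc := hk hx
  obtain ⟨h10, h20, -⟩ := scalar_of_commute hF (Subgroup.mem_center_iff.1 hc (dd hF)).symm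
    (Subgroup.mem_center_iff.1 hc (cyc F 2)).symm
  have e := congrArg (fun y : Cfsg.SU 3 F 2 => y.1.1) (Subgroup.mem_center_iff.1 hc (cyc F 2))
  change (cyc F 2).1.1 * x.1.1 = x.1.1 * (cyc F 2).1.1 at e
  have g00 := congrFun (congrFun e 1) 0
  have g10 := congrFun (congrFun e 2) 1
  have g01 := congrFun (congrFun e 1) 1
  have g02 := congrFun (congrFun e 0) 1
  have g21 := congrFun (congrFun e 0) 0
  have g12 := congrFun (congrFun e 2) 0
  simp [cyc, Matrix.mul_apply, Fin.sum_univ_three] at g00 g10 g01 g02 g21 g12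
  have ha0 : x.1.1 0 0 ≠ 0 := fun h => by
    have := x.1.2
    rw [Matrix.det_fin_three] at this
    grind
  have key : ∀ z : Cfsg.SU 3 F 2, z.1.1 = !![x.1.1 0 0, 0, 0; 0, x.1.1 0 0, 0; 0, 0, x.1.1 0 0] → z = x :=
    fun z hze => ext3 hF (by rw [hze]; ext i j; fin_cases i <;> fin_cases j <;> simp <;> grind)
  rcases four_cases hF (om_eq hF) (x.1.1 0 0) with h | h | h | h
  · exact absurd h ha0
  · exact (key 1 (by rw [h]; ext i j; fin_cases i <;> fin_cases j <;> simp)).symm
  · refine absurd ?_ hz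
    rw [key (zz hF) (by
      rw [zz, diag3_val, h, show ((om hF * om hF) ^ 2 : F) = om hF by linear_combination om hF * om_norm hF])]
    exact hx
  · refine absurd ?_ hz
    have : zz hF * zz hF = x := key _ (by
      show (zz hF).1.1 * (zz hF).1.1 = _
      rw [zz, diag3_val, h, show ((om hF * om hF) ^ 2 : F) = om hF by linear_combination om hF * om_norm hF]
      ext i j
      fin_cases i <;> fin_cases j <;> simp)
    have hz3 : zz hF * zz hF * zz hF = 1 := ext3 hF (by
      show (zz hF).1.1 * (zz hF).1.1 * (zz hF).1.1 = _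
      rw [zz, diag3_val, show ((om hF * om hF) ^ 2 : F) = om hF by linear_combination om hF * om_norm hF]
      ext i j
      fin_cases i <;> fin_cases j <;> simp <;> linear_combination om_norm hF)
    have := congrArg φ hz3
    rwa [map_mul φ (zz hF * zz hF), map_one, show φ (zz hF * zz hF) = 1 by rw [‹zz hF * zz hF = x›]; exact hx,
      one_mul] at this

/-- in a chain both kernels are trivial -/
theorem injective_of_glue {H : Type v} [Group H] {φ φ' : Cfsg.SU 3 F 2 →* H}
    (hk : φ.ker ≤ Subgroup.center (Cfsg.SU 3 F 2)) (hk' : φ'.ker ≤ Subgroup.center (Cfsg.SU 3 F 2))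
    (glue : ∀ x, φ (blo x) = φ' (bup x)) (far : ∀ x y, Commute (φ (bup x)) (φ' (blo y))) :
    Function.Injective φ ∧ Function.Injective φ' := by
  obtain ⟨a, hae⟩ : ∃ a, a = dia hF (om hF) (om_norm hF) := ⟨_, rfl⟩
  have hz : zz hF = bup a * (blo a)⁻¹ := by
    rw [eq_mul_inv_iff_mul_eq, hae]
    refine ext3 hF ?_
    show (zz hF).1.1 * (blo _).1.1 = (bup _).1.1
    rw [zz, diag3_val, bup_val, blo_val, dia_val, show ((om hF * om hF) ^ 2 : F) = om hF by
      linear_combination om hF * om_norm hF]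
    ext i j
    have h3 := om_norm hF
    fin_cases i <;> fin_cases j <;> simp <;> grind
  have hw := om_ne_one hF
  -- the two non-central commutators
  have key : ∀ (ψ : Cfsg.SU 3 F 2 →* H), ψ.ker ≤ Subgroup.center (Cfsg.SU 3 F 2) → ∀ (k m : Cfsg.SU 3 F 2),
      Commute (ψ k) (ψ m) → (k * m * k⁻¹ * m⁻¹).1.1 0 0 = (k * m * k⁻¹ * m⁻¹).1.1 1 1 := by
    intro ψ hψ k m hkm
    have hc := hψ (show k * m * k⁻¹ * m⁻¹ ∈ ψ.ker by
      rw [MonoidHom.mem_ker, map_mul, map_mul, map_mul, map_inv, map_inv, hkm.eq]; group)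
    have e := congrArg (fun y : Cfsg.SU 3 F 2 => y.1.1 1 0) (Subgroup.mem_center_iff.1 hc (cyc F 2))
    change ((cyc F 2).1.1 * (k * m * k⁻¹ * m⁻¹).1.1) 1 0 = ((k * m * k⁻¹ * m⁻¹).1.1 * (cyc F 2).1.1) 1 0 at e
    simpa [cyc, Matrix.mul_apply, Fin.sum_univ_three] using e
  have hr : (rot hF : Cfsg.SU 2 F 2)⁻¹ = rot hF := inv_eq_of_mul_eq_one_right (Subtype.ext (Subtype.ext (by
    show (rot hF).1.1 * (rot hF).1.1 = _
    rw [rot_val]
    ext i j
    fin_cases i <;> fin_cases j <;> simp)))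
  obtain ⟨a', ha'⟩ : ∃ a', a' = dia hF (om hF ^ 2) (norm_one hF (pow_ne_zero 2 (om_ne hF))) := ⟨_, rfl⟩
  have hai : a⁻¹ = a' :=
    inv_eq_of_mul_eq_one_right (Subtype.ext (Subtype.ext (by
      show a.1.1 * a'.1.1 = _
      rw [hae, ha', dia_val, dia_val]
      ext i j
      fin_cases i <;> fin_cases j <;> simp <;>
        first | linear_combination om_norm hF | linear_combination (om hF ^ 3 + 1) * om_norm hF)))
  refine ⟨injective_of_zz hF hk fun e => ?_, injective_of_zz hF hk' fun e => ?_⟩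
  · rw [hz, map_mul, map_inv, mul_inv_eq_one] at e
    have h := key φ' hk' (bup a) (blo (rot hF)) (by rw [← glue, ← e]; exact far _ _)
    rw [← map_inv, ← map_inv, hai, hr] at h
    change ((bup a).1.1 * (blo (rot hF)).1.1 * (bup a').1.1 * (blo (rot hF)).1.1) 0 0 =
      ((bup a).1.1 * (blo (rot hF)).1.1 * (bup a').1.1 * (blo (rot hF)).1.1) 1 1 at h
    rw [hae, ha', bup_val, bup_val, blo_val, dia_val, dia_val, rot_val] at h
    simp at h
    exact hw (by linear_combination om hF * h + (1 - om hF) * om_norm hF)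
  · rw [hz, map_mul, map_inv, mul_inv_eq_one] at e
    have h := key φ hk (bup (rot hF)) (blo a) (by rw [glue, e]; exact far _ _)
    rw [← map_inv, ← map_inv, hai, hr] at h
    change ((bup (rot hF)).1.1 * (blo a).1.1 * (bup (rot hF)).1.1 * (blo a').1.1) 0 0 =
      ((bup (rot hF)).1.1 * (blo a).1.1 * (bup (rot hF)).1.1 * (blo a').1.1) 1 1 at h
    rw [hae, ha', bup_val, blo_val, blo_val, dia_val, dia_val, rot_val] at h
    simp at h
    exact hw (by linear_combination -(om hF ^ 2) * h + (1 - om hF) * om_norm hF)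

end CfsgLib.Phan
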