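import Cfsg.Agent.Lib.Recog.Phan.Two.Nml

/-!
# Standard forms for automorphisms of `SU 3` and embeddings into `SU 4` over four elements
-/

set_option autoImplicit false

namespace CfsgLib.Phan

open CfsgLib.Classical CfsgLib.Classical.Herm CfsgLib.Known.SUBounded

universe u v

variable {F : Type u} [Field F] [Fintype F] (hF : Fintype.card F = 2 ^ 2)
include hF

theorem exists_blo {x : Cfsg.SU 3 F 2} (h : act x (std 0) = std 0) : ∃ A, blo A = x := by
  obtain ⟨A, hA⟩ := exists_emb hF (k := 2) h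
  exact ⟨A, by rw [← hA, emb_eq]⟩

theorem cyc_std_two : act (cyc F 2) (std 2) = std 0 := by
  funext i
  fin_cases i <;> simp [act, cyc, std, Matrix.mulVec_single]

theorem exists_bup {x : Cfsg.SU 3 F 2} (h : act x (std 2) = std 2) : ∃ A, bup A = x := by
  obtain ⟨A, hA⟩ := exists_blo hF (x := cyc F 2 * x * (cyc F 2)⁻¹) (by
    rw [act_mul, act_mul, act_inv_eq (cyc_std_two hF), h, cyc_std_two hF])
  refine ⟨A, ?_⟩
  rw [← cyc_bup] at hA
  exact mul_left_cancel (mul_right_cancel hA)

/-- automorphisms of `SU 2` are monomial semilinear -/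
theorem semi_two (α : MulAut (Cfsg.SU 2 F 2)) :
    ∃ (σ : F ≃+* F) (l : F), l * l ^ 2 = 1 ∧ α (dia hF (om hF) (om_norm hF)) =
        dia hF (σ (om hF)) (norm_one hF ((map_ne_zero σ).2 (om_ne hF))) ∧
      ∀ x, (α x).1.1 0 0 = σ (x.1.1 0 0) ∧ (α x).1.1 1 0 = l * σ (x.1.1 1 0) := by
  classical
  obtain ⟨a, hae⟩ : ∃ a, a = dia hF (om hF) (om_norm hF) := ⟨_, rfl⟩
  have hsq : ∀ (b : F) (hb : b * b ^ 2 = 1), (dia hF b hb * rot hF) * (dia hF b hb * rot hF) = 1 := fun b hb => by
    refine Subtype.ext (Subtype.ext ?_)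
    show ((dia hF b hb).1.1 * (rot hF).1.1) * ((dia hF b hb).1.1 * (rot hF).1.1) = _
    rw [rot_val, dia_val]
    ext i j
    fin_cases i <;> fin_cases j <;> simp <;> linear_combination hb
  have hdd : ∀ (b c : F) (hb : b * b ^ 2 = 1) (hc : c * c ^ 2 = 1),
      dia hF b hb * dia hF c hc = dia hF (b * c) (by rw [mul_pow, mul_mul_mul_comm, hb, hc, one_mul]) :=
    fun b c hb hc => Subtype.ext (Subtype.ext (by
      show (dia hF b hb).1.1 * (dia hF c hc).1.1 = _
      rw [dia_val, dia_val, dia_val]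
      ext i j
      fin_cases i <;> fin_cases j <;> simp [mul_pow]))
  have ha2 : a * a ≠ 1 := fun e => by
    rw [hae, hdd] at e
    have := congrArg (fun k : Cfsg.SU 2 F 2 => k.1.1 0 0) e
    simp [dia_val] at this
    exact om_sq_ne_one hF this
  obtain ⟨b, hb, hab⟩ : ∃ (b : F) (hb : b * b ^ 2 = 1), α a = dia hF b hb := by
    obtain ⟨b, hb, e | e⟩ := su2_cases hF (α a)
    · exact ⟨b, hb, e⟩
    · exact absurd (α.injective (by rw [map_mul, e, hsq, map_one])) ha2
  have hb1 : b ≠ 1 := fun e => by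
    subst e
    have h1 : dia hF (1 : F) hb = 1 := Subtype.ext (Subtype.ext (by
      rw [dia_val]
      ext i j
      fin_cases i <;> fin_cases j <;> simp))
    have := α.injective (hab.trans (h1.trans (map_one α).symm))
    rw [hae] at this
    have := congrArg (fun k : Cfsg.SU 2 F 2 => k.1.1 0 0) this
    simp [dia_val] at this
    exact om_ne_one hF this
  obtain ⟨σ, hσ⟩ : ∃ σ : F ≃+* F, σ (om hF) = b := by
    rcases four_cases hF (om_eq hF) b with rfl | rfl | rfl | rfl
    · simp at hb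
    · exact absurd rfl hb1
    · exact ⟨RingEquiv.refl F, rfl⟩
    · exact ⟨RingEquiv.ofBijective (powHom hF) ⟨(powHom hF).injective,
        Finite.surjective_of_injective (powHom hF).injective⟩, by
          show powHom hF (om hF) = _
          rw [powHom_apply, pow_two]⟩
  have hdia : ∀ (c : F) (hc : c * c ^ 2 = 1),
      α (dia hF c hc) = dia hF (σ c) (norm_one hF ((map_ne_zero σ).2 (left_ne_zero_of_mul_eq_one hc))) := by
    intro c hc
    rcases four_cases hF (om_eq hF) c with rfl | rfl | rfl | rfl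
    · simp at hc
    · have h1 : dia hF (1 : F) hc = 1 := Subtype.ext (Subtype.ext (by
        rw [dia_val]
        ext i j
        fin_cases i <;> fin_cases j <;> simp))
      refine Subtype.ext (Subtype.ext ?_)
      rw [h1, map_one α, dia_val, map_one σ]
      ext i j
      fin_cases i <;> fin_cases j <;> simp
    · rw [show dia hF (om hF) hc = a from hae.symm, hab]
      exact su2_congr hF _ _ hσ.symm rfl
    · rw [show dia hF (om hF * om hF) hc = a * a by rw [hae, hdd], map_mul, hab, hdd]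
      exact su2_congr hF _ _ (by rw [map_mul, hσ]) rfl
  obtain ⟨l, hl, hrl⟩ : ∃ (l : F) (hl : l * l ^ 2 = 1), α (rot hF) = dia hF l hl * rot hF := by
    obtain ⟨l, hl, e | e⟩ := su2_cases hF (α (rot hF))
    · have h2 : (dia hF l hl) * (dia hF l hl) = 1 := by
        rw [← e, ← map_mul, show rot hF * rot hF = (1 : Cfsg.SU 2 F 2) from Subtype.ext (Subtype.ext (by
          show (rot hF).1.1 * (rot hF).1.1 = _
          rw [rot_val]
          ext i j
          fin_cases i <;> fin_cases j <;> simp)), map_one]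
      rw [hdd] at h2
      have h3 := congrArg (fun k : Cfsg.SU 2 F 2 => k.1.1 0 0) h2
      simp [dia_val] at h3
      have hl1 : l = 1 := by linear_combination hl - l * h3
      subst hl1
      have h4 : rot hF = (1 : Cfsg.SU 2 F 2) := α.injective (by
        rw [e, map_one]
        refine Subtype.ext (Subtype.ext ?_)
        rw [dia_val]
        ext i j
        fin_cases i <;> fin_cases j <;> simp)
      have := congrArg (fun k : Cfsg.SU 2 F 2 => k.1.1 0 0) h4
      simp [rot_val] at this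
    · exact ⟨l, hl, e⟩
  refine ⟨σ, l ^ 2, norm_one hF (pow_ne_zero 2 (left_ne_zero_of_mul_eq_one hl)), hdia _ _, fun x => ?_⟩
  obtain ⟨c, hc, rfl | rfl⟩ := su2_cases hF x
  · rw [hdia]
    simp [dia_val]
  · rw [map_mul, hdia, hrl, ← mul_assoc, hdd]
    constructor
    · show ((dia hF _ _).1.1 * (rot hF).1.1) 0 0 = σ (((dia hF c hc).1.1 * (rot hF).1.1) 0 0)
      rw [dia_val, dia_val, rot_val]
      simp
    · show ((dia hF _ _).1.1 * (rot hF).1.1) 1 0 = l ^ 2 * σ (((dia hF c hc).1.1 * (rot hF).1.1) 1 0)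
      rw [dia_val, dia_val, rot_val]
      simp [mul_pow]
      ring

theorem diag3_closed {a b a' b' : F} (ha : a * a ^ 2 = 1) (hb : b * b ^ 2 = 1) (ha' : a' * a' ^ 2 = 1)
    (hb' : b' * b' ^ 2 = 1) : ∃ (c d : F) (hc : c * c ^ 2 = 1) (hd : d * d ^ 2 = 1),
      diag3 hF ha hb * diag3 hF ha' hb' = diag3 hF hc hd := ⟨_, _, _, _, diag3_mul hF ha hb ha' hb'⟩

/-- the elements of the normal subgroup are monomial -/
theorem Esub_form {x : Cfsg.SU 3 F 2} (hx : x ∈ Esub hF) :
    ∃ (a b : F) (ha : a * a ^ 2 = 1) (hb : b * b ^ 2 = 1) (k : ℕ), x = diag3 hF ha hb * cyc F 2 ^ k := by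
  have hpush : ∀ (k : ℕ) (a b : F) (ha : a * a ^ 2 = 1) (hb : b * b ^ 2 = 1),
      ∃ (a' b' : F) (ha' : a' * a' ^ 2 = 1) (hb' : b' * b' ^ 2 = 1),
        cyc F 2 ^ k * diag3 hF ha hb = diag3 hF ha' hb' * cyc F 2 ^ k := by
    intro k
    induction k with
    | zero => intro a b ha hb; exact ⟨a, b, ha, hb, by rw [pow_zero, one_mul, mul_one]⟩
    | succ k ih =>
      intro a b ha hb
      obtain ⟨a', b', ha', hb', e⟩ := ih a b ha hb
      refine ⟨(a' * b') ^ 2, a', norm_one hF (pow_ne_zero 2 (mul_ne_zero (left_ne_zero_of_mul_eq_one ha')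
        (left_ne_zero_of_mul_eq_one hb'))), ha', ?_⟩
      rw [pow_succ', mul_assoc, e, ← mul_assoc, ← mul_assoc]
      congr 1
      refine ext3 hF ?_
      show (cyc F 2).1.1 * (diag3 hF ha' hb').1.1 = (diag3 hF _ _).1.1 * (cyc F 2).1.1
      rw [diag3_val, diag3_val]
      ext i j
      fin_cases i <;> fin_cases j <;> simp [cyc]
      linear_combination -(b' * b' ^ 3) * ha' * (a' * a' ^ 2 + 1) - b' * hb'
  rw [Esub, ← Subgroup.mem_toSubmonoid, Subgroup.closure_toSubmonoid_of_finite] at hx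
  induction hx using Submonoid.closure_induction with
  | mem y hy =>
    rcases hy with rfl | rfl | rfl
    · exact ⟨_, _, om_norm hF, om_norm hF, 0, by rw [pow_zero, mul_one]; rfl⟩
    · exact ⟨_, _, one_norm hF, om_norm hF, 0, by rw [pow_zero, mul_one]; rfl⟩
    · refine ⟨_, _, one_norm hF, one_norm hF, 1, ?_⟩
      rw [pow_one, show diag3 hF (one_norm hF) (one_norm hF) = 1 from ext3 hF (by
        rw [diag3_val]
        ext i j
        fin_cases i <;> fin_cases j <;> simp), one_mul]
  | one =>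
    refine ⟨_, _, one_norm hF, one_norm hF, 0, ?_⟩
    rw [pow_zero, mul_one]
    refine ext3 hF ?_
    rw [diag3_val]
    ext i j
    fin_cases i <;> fin_cases j <;> simp
  | mul y z _ _ hy hz =>
    obtain ⟨a, b, ha, hb, k, rfl⟩ := hy
    obtain ⟨a', b', ha', hb', k', rfl⟩ := hz
    obtain ⟨a'', b'', ha'', hb'', e⟩ := hpush k a' b' ha' hb'
    obtain ⟨c, c', hc, hc', e'⟩ := diag3_closed hF ha hb ha'' hb''
    refine ⟨c, c', hc, hc', k + k', ?_⟩
    rw [← mul_assoc, mul_assoc (diag3 hF ha hb), e, ← mul_assoc, e', mul_assoc, ← pow_add]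

set_option maxHeartbeats 1600000 in
/-- an element of the normal subgroup is conjugate to a diagonal one -/
theorem exists_diag {x : Cfsg.SU 3 F 2} (hx : x ∈ Esub hF) :
    ∃ (m : Cfsg.SU 3 F 2) (a b : F) (ha : a * a ^ 2 = 1) (hb : b * b ^ 2 = 1),
      m⁻¹ * x * m = diag3 hF ha hb := by
  obtain ⟨a, b, ha, hb, k, rfl⟩ := Esub_form hF hx
  have hcyc3 : cyc F 2 ^ 3 = 1 := ext3 hF (by
    rw [pow_succ, pow_two]
    show (cyc F 2).1.1 * (cyc F 2).1.1 * (cyc F 2).1.1 = _
    ext i j
    fin_cases i <;> fin_cases j <;> simp [cyc])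
  have hk : cyc F 2 ^ k = cyc F 2 ^ (k % 3) := by
    conv_lhs => rw [← Nat.div_add_mod k 3, pow_add, pow_mul, hcyc3, one_pow, one_mul]
  -- the elements of the second coset
  have two : ∀ (a b : F) (ha : a * a ^ 2 = 1) (hb : b * b ^ 2 = 1),
      ∃ (m : Cfsg.SU 3 F 2) (a' b' : F) (ha' : a' * a' ^ 2 = 1) (hb' : b' * b' ^ 2 = 1),
        m⁻¹ * (diag3 hF ha hb * cyc F 2 * cyc F 2) * m = diag3 hF ha' hb' := by
    intro a b ha hb
    have ha0 := left_ne_zero_of_mul_eq_one ha
    have hb0 := left_ne_zero_of_mul_eq_one hb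
    obtain ⟨c, hc⟩ : ∃ c, c = (b * a ^ 2) ^ 2 := ⟨_, rfl⟩
    have hc0 : c ≠ 0 := hc ▸ pow_ne_zero 2 (mul_ne_zero hb0 (pow_ne_zero 2 ha0))
    have hc2 : c ^ 2 = b * a ^ 2 := by
      rw [hc, ← pow_mul]
      linear_combination (b * a ^ 2) * cube_eq_one hF (mul_ne_zero hb0 (pow_ne_zero 2 ha0))
    obtain ⟨s, hs⟩ : ∃ s, s = diag3 hF ha ha := ⟨_, rfl⟩
    have hsc : ∀ y, y * s = s * y := fun y => by
      refine ext3 hF ?_
      show y.1.1 * s.1.1 = s.1.1 * y.1.1
      rw [hs, diag3_val, show ((a * a) ^ 2 : F) = a by linear_combination a * ha]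
      ext i j
      fin_cases i <;> fin_cases j <;> simp [Matrix.mul_apply, Fin.sum_univ_three, mul_comm]
    have e : diag3 hF ha hb * cyc F 2 * cyc F 2 = s * (four hF hc0 * dd hF * (four hF hc0)⁻¹) := by
      rw [four_dd, mul_inv_cancel_right, ← mul_assoc, ← mul_assoc, hs, diag3_mul]
      congr 2
      exact diag3_congr hF _ _ _ _ (mul_one a).symm (by rw [hc2]; linear_combination -b * ha)
    obtain ⟨a', b', ha', hb', e'⟩ := diag3_closed hF ha ha (one_norm hF) (om_norm hF)
    refine ⟨four hF hc0, a', b', ha', hb', ?_⟩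
    rw [e, show (four hF hc0)⁻¹ * (s * (four hF hc0 * dd hF * (four hF hc0)⁻¹)) * four hF hc0 =
          ((four hF hc0)⁻¹ * s) * four hF hc0 * dd hF by group, hsc, mul_assoc s, inv_mul_cancel, mul_one, hs, dd, e']
  have := k.mod_lt (show 3 > 0 by norm_num)
  rw [hk]
  rcases h : k % 3 with _ | _ | _ | j
  · exact ⟨1, a, b, ha, hb, by rw [pow_zero, mul_one, inv_one, one_mul, mul_one]⟩
  · obtain ⟨x, hx⟩ : ∃ x, x = diag3 hF ha hb * cyc F 2 ^ 1 := ⟨_, rfl⟩
    obtain ⟨a₁, b₁, ha₁, hb₁, e⟩ : ∃ (a₁ b₁ : F) (ha₁ : a₁ * a₁ ^ 2 = 1) (hb₁ : b₁ * b₁ ^ 2 = 1),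
        x * x = diag3 hF ha₁ hb₁ * cyc F 2 * cyc F 2 := by
      refine ⟨a * (a * b) ^ 2, b * a, ?_, ?_, ?_⟩
      · exact norm_one hF (mul_ne_zero (left_ne_zero_of_mul_eq_one ha) (pow_ne_zero 2 (mul_ne_zero
          (left_ne_zero_of_mul_eq_one ha) (left_ne_zero_of_mul_eq_one hb))))
      · exact norm_one hF (mul_ne_zero (left_ne_zero_of_mul_eq_one hb) (left_ne_zero_of_mul_eq_one ha))
      refine ext3 hF ?_
      rw [hx, pow_one]
      show ((diag3 hF ha hb).1.1 * (cyc F 2).1.1) * ((diag3 hF ha hb).1.1 * (cyc F 2).1.1) =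
        (diag3 hF _ _).1.1 * (cyc F 2).1.1 * (cyc F 2).1.1
      rw [diag3_val, diag3_val]
      ext i j
      fin_cases i <;> fin_cases j <;> simp [cyc]
      have h3a : a ^ 3 = 1 := cube_eq_one hF (left_ne_zero_of_mul_eq_one ha)
      have h3b : b ^ 3 = 1 := cube_eq_one hF (left_ne_zero_of_mul_eq_one hb)
      grind
    obtain ⟨m, a', b', ha', hb', e'⟩ := two a₁ b₁ ha₁ hb₁
    rw [← e] at e'
    have hx3 : x * x * (x * x) = x := by
      have hpow : x ^ 3 = 1 := by
        rw [hx, pow_one]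
        refine ext3 hF ?_
        rw [pow_succ, pow_two]
        show ((diag3 hF ha hb).1.1 * (cyc F 2).1.1) * ((diag3 hF ha hb).1.1 * (cyc F 2).1.1) *
          ((diag3 hF ha hb).1.1 * (cyc F 2).1.1) = _
        rw [diag3_val]
        have h3 := cube_eq_one hF (mul_ne_zero (left_ne_zero_of_mul_eq_one ha) (left_ne_zero_of_mul_eq_one hb))
        obtain ⟨c, hc⟩ : ∃ c, c = (a * b) ^ 2 := ⟨_, rfl⟩
        have habc : a * b * c = 1 := by rw [hc]; linear_combination h3
        rw [← hc]
        clear hc hx e e'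
        ext i j
        fin_cases i <;> fin_cases j <;> simp [cyc] <;> linear_combination habc
      rw [pow_succ, pow_two] at hpow
      rw [← mul_assoc, hpow, one_mul]
    obtain ⟨c, c', hc, hc', e''⟩ := diag3_closed hF ha' hb' ha' hb'
    refine ⟨m, c, c', hc, hc', ?_⟩
    rw [← hx, ← hx3, show m⁻¹ * (x * x * (x * x)) * m = (m⁻¹ * (x * x) * m) * (m⁻¹ * (x * x) * m) by group, e',
      e'']
  · obtain ⟨m, a', b', ha', hb', e⟩ := two a b ha hb
    exact ⟨m, a', b', ha', hb', by rw [pow_two]; simpa only [mul_assoc] using e⟩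
  · omega

set_option maxHeartbeats 4000000 in
/-- blocks after a conjugation -/
theorem exists_norm_aut (A : Cfsg.SU 3 F 2 →* Cfsg.SU 3 F 2) (hA : Function.Injective A) :
    ∃ (m : Cfsg.SU 3 F 2) (α β : MulAut (Cfsg.SU 2 F 2)),
      (∀ z, A (bup z) = m * bup (α z) * m⁻¹) ∧ (∀ z, A (blo z) = m * blo (β z) * m⁻¹) ∧
        α (dia hF (om hF) (om_norm hF)) = β (dia hF (om hF) (om_norm hF)) := by
  classical
  have h3 := om_norm hF
  obtain ⟨d, hd⟩ : ∃ d, d = dia hF (om hF) (om_norm hF) := ⟨_, rfl⟩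
  have hdd : blo d = dd hF := by
    refine ext3 hF ?_
    rw [hd, blo_val, dia_val, dd, diag3_val]
    ext i j
    fin_cases i <;> fin_cases j <;> simp
  have hbd : bup d = zz hF * dd hF := by
    refine ext3 hF ?_
    show _ = (zz hF).1.1 * (dd hF).1.1
    rw [hd, bup_val, dia_val, dd, zz, diag3_val, diag3_val]
    ext i j
    fin_cases i <;> fin_cases j <;> simp <;> grind
  have hd3 : d ^ 3 = 1 := by
    rw [hd]
    refine Subtype.ext (Subtype.ext ?_)
    rw [pow_succ, pow_two]
    show (dia hF _ _).1.1 * (dia hF _ _).1.1 * (dia hF _ _).1.1 = _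
    rw [dia_val]
    ext i j
    fin_cases i <;> fin_cases j <;> simp <;> grind
  -- the image of the scalar is scalar
  obtain ⟨κ, hκ, hκe⟩ : ∃ (κ : F) (hκ : κ * κ ^ 2 = 1), A (zz hF) = diag3 hF hκ hκ := by
    have hsurj : Function.Surjective A := Finite.surjective_of_injective hA
    have hc : A (zz hF) ∈ Subgroup.center (Cfsg.SU 3 F 2) := Subgroup.mem_center_iff.2 fun y => by
      obtain ⟨y, rfl⟩ := hsurj y
      rw [← map_mul, ← map_mul, zz_comm]
    obtain ⟨a, b, ha, hb, k, hk⟩ := Esub_form hF (x := A (zz hF)) (mem_of_cube hF (by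
      rw [← map_pow, show zz hF ^ 3 = 1 from ext3 hF (by
        rw [pow_succ, pow_two]
        show (zz hF).1.1 * (zz hF).1.1 * (zz hF).1.1 = _
        rw [zz, diag3_val]
        ext i j
        fin_cases i <;> fin_cases j <;> simp <;> grind), map_one]))
    obtain ⟨h10, h20, -⟩ := scalar_of_commute hF (Subgroup.mem_center_iff.1 hc (dd hF)).symm
      (Subgroup.mem_center_iff.1 hc (cyc F 2)).symm
    have e := congrArg (fun y : Cfsg.SU 3 F 2 => y.1.1) (Subgroup.mem_center_iff.1 hc (cyc F 2))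
    change (cyc F 2).1.1 * (A (zz hF)).1.1 = (A (zz hF)).1.1 * (cyc F 2).1.1 at e
    have g00 := congrFun (congrFun e 1) 0
    have g10 := congrFun (congrFun e 2) 1
    have g01 := congrFun (congrFun e 1) 1
    have g02 := congrFun (congrFun e 0) 1
    have g21 := congrFun (congrFun e 0) 0
    have g12 := congrFun (congrFun e 2) 0
    simp [cyc, Matrix.mul_apply, Fin.sum_univ_three] at g00 g10 g01 g02 g21 g12
    have hne : (A (zz hF)).1.1 0 0 ≠ 0 := fun h => by
      have := (A (zz hF)).1.2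
      rw [Matrix.det_fin_three] at this
      grind
    refine ⟨_, norm_one hF hne, ext3 hF ?_⟩
    rw [diag3_val]
    have h3' := cube_eq_one hF hne
    ext i j
    fin_cases i <;> fin_cases j <;> simp <;> grind
  have hκ1 : κ ≠ 1 := fun e => by
    subst e
    have : zz hF = 1 := hA (by
      rw [hκe, map_one]
      refine ext3 hF ?_
      rw [diag3_val]
      ext i j
      fin_cases i <;> fin_cases j <;> simp)
    have := congrArg (fun k : Cfsg.SU 3 F 2 => k.1.1 0 0) this
    simp [zz, diag3_val] at this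
    exact om_ne_one hF this
  have hsc : ∀ y, y * diag3 hF hκ hκ = diag3 hF hκ hκ * y := fun y => by
    refine ext3 hF ?_
    show y.1.1 * (diag3 hF hκ hκ).1.1 = (diag3 hF hκ hκ).1.1 * y.1.1
    rw [diag3_val, show ((κ * κ) ^ 2 : F) = κ by linear_combination κ * hκ]
    ext i j
    fin_cases i <;> fin_cases j <;> simp [Matrix.mul_apply, Fin.sum_univ_three, mul_comm]
  obtain ⟨m₁, a, b, ha, hb, hm₁⟩ := exists_diag hF (x := A (dd hF)) (mem_of_cube hF (by
    rw [← map_pow, ← hdd, ← map_pow, hd3, map_one, map_one]))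
  have hab : a ≠ b := fun e => by
    subst e
    have hc : A (dd hF) ∈ Subgroup.center (Cfsg.SU 3 F 2) := by
      refine Subgroup.mem_center_iff.2 fun y => ?_
      have hs : ∀ z, z * diag3 hF ha hb = diag3 hF ha hb * z := fun z => by
        refine ext3 hF ?_
        show z.1.1 * (diag3 hF ha hb).1.1 = (diag3 hF ha hb).1.1 * z.1.1
        rw [diag3_val, show ((a * a) ^ 2 : F) = a by linear_combination a * ha]
        ext i j
        fin_cases i <;> fin_cases j <;> simp [Matrix.mul_apply, Fin.sum_univ_three, mul_comm]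
      have := hs (m₁⁻¹ * y * m₁)
      rw [← hm₁] at this
      have := congrArg (fun z => m₁ * z * m₁⁻¹) this
      simpa [mul_assoc] using this
    have h := (Subgroup.mem_center_iff.1 hc (A (cyc F 2)))
    rw [← map_mul, ← map_mul] at h
    have := congrArg (fun k : Cfsg.SU 3 F 2 => k.1.1 1 0) (hA h)
    change ((cyc F 2).1.1 * (dd hF).1.1) 1 0 = ((dd hF).1.1 * (cyc F 2).1.1) 1 0 at this
    rw [dd, diag3_val] at this
    simp [cyc] at this
    exact om_ne_one hF (by linear_combination -this)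
  -- move the unit entry to the first place
  obtain ⟨m₂, c, hc, hc1, hm₂⟩ : ∃ (m₂ : Cfsg.SU 3 F 2) (c : F) (hc : c * c ^ 2 = 1), c ≠ 1 ∧
      m₂⁻¹ * A (dd hF) * m₂ = diag3 hF (one_norm hF) hc := by
    have h1 : a = 1 ∨ b = 1 ∨ (a * b) ^ 2 = 1 := by
      have hw := om_eq hF
      rcases four_cases hF hw a with rfl | rfl | rfl | rfl <;>
        rcases four_cases hF hw b with rfl | rfl | rfl | rfl <;> simp at ha hb hab ⊢ <;> grind
    have step : ∀ (x y : F) (hx : x * x ^ 2 = 1) (hy : y * y ^ 2 = 1),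
        cyc F 2 * diag3 hF hx hy * (cyc F 2)⁻¹ = diag3 hF
          (norm_one hF (pow_ne_zero 2 (mul_ne_zero (left_ne_zero_of_mul_eq_one hx)
            (left_ne_zero_of_mul_eq_one hy)))) hx := by
      intro x y hx hy
      rw [mul_inv_eq_iff_eq_mul]
      refine ext3 hF ?_
      show (cyc F 2).1.1 * (diag3 hF hx hy).1.1 = (diag3 hF _ _).1.1 * (cyc F 2).1.1
      rw [diag3_val, diag3_val]
      ext i j
      fin_cases i <;> fin_cases j <;> simp [cyc]
      grind
    rcases h1 with h | h | h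
    · subst h
      exact ⟨m₁, b, hb, fun e => hab e.symm, hm₁⟩
    · subst h
      refine ⟨m₁ * (cyc F 2)⁻¹ * (cyc F 2)⁻¹, _, norm_one hF (pow_ne_zero 2 (mul_ne_zero
        (left_ne_zero_of_mul_eq_one ha) one_ne_zero)), ?_, ?_⟩
      · intro e
        refine hab ?_
        linear_combination ha - a * e
      · rw [show (m₁ * (cyc F 2)⁻¹ * (cyc F 2)⁻¹)⁻¹ * A (dd hF) * (m₁ * (cyc F 2)⁻¹ * (cyc F 2)⁻¹) =
          cyc F 2 * (cyc F 2 * (m₁⁻¹ * A (dd hF) * m₁) * (cyc F 2)⁻¹) * (cyc F 2)⁻¹ by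
            simp only [mul_inv_rev, inv_inv, mul_assoc], hm₁, step, step]
        exact diag3_congr hF _ _ _ _ (by grind) rfl
    · refine ⟨m₁ * (cyc F 2)⁻¹, a, ha, fun e => ?_, ?_⟩
      · subst e
        refine hab ?_
        rw [one_mul] at h
        linear_combination -hb + b * h
      · rw [show (m₁ * (cyc F 2)⁻¹)⁻¹ * A (dd hF) * (m₁ * (cyc F 2)⁻¹) =
          cyc F 2 * (m₁⁻¹ * A (dd hF) * m₁) * (cyc F 2)⁻¹ by group, hm₁, step]
        exact diag3_congr hF _ _ _ _ h rfl
  -- the two adjacent pairs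
  obtain ⟨m, e, he, he1, hmu, hml⟩ : ∃ (m : Cfsg.SU 3 F 2) (e : F) (he : e * e ^ 2 = 1), e ≠ 1 ∧
      m⁻¹ * A (bup d) * m = bup (dia hF e he) ∧ m⁻¹ * A (blo d) * m = blo (dia hF e he) := by
    have hu : m₂⁻¹ * A (bup d) * m₂ = diag3 hF hκ hκ * diag3 hF (one_norm hF) hc := by
      rw [hbd, map_mul, hκe, ← hm₂, show m₂⁻¹ * (diag3 hF hκ hκ * A (dd hF)) * m₂ =
        (m₂⁻¹ * diag3 hF hκ hκ) * (A (dd hF) * m₂) by group, hsc]
      group
    rw [← hdd] at hm₂
    have hκc : κ = c ∨ κ = c ^ 2 := by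
      have hw := om_eq hF
      rcases four_cases hF hw κ with rfl | rfl | rfl | rfl <;>
        rcases four_cases hF hw c with rfl | rfl | rfl | rfl <;> simp at hκ hc hκ1 hc1 ⊢ <;> grind
    rcases hκc with h | h
    · subst h
      refine ⟨m₂, _, hc, hc1, ?_, ?_⟩
      · rw [hu, diag3_mul]
        refine ext3 hF ?_
        rw [diag3_val, bup_val, dia_val]
        ext i j
        fin_cases i <;> fin_cases j <;> simp <;> grind
      · rw [hm₂]
        refine ext3 hF ?_
        rw [diag3_val, blo_val, dia_val]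
        ext i j
        fin_cases i <;> fin_cases j <;> simp <;> grind
    · subst h
      refine ⟨m₂ * blo (rot hF), c ^ 2, hκ, hκ1, ?_, ?_⟩
      · rw [show (m₂ * blo (rot hF))⁻¹ * A (bup d) * (m₂ * blo (rot hF)) =
          (blo (rot hF))⁻¹ * (m₂⁻¹ * A (bup d) * m₂) * blo (rot hF) by group, hu, diag3_mul, mul_assoc,
          inv_mul_eq_iff_eq_mul]
        refine ext3 hF ?_
        show (diag3 hF _ _).1.1 * (blo (rot hF)).1.1 = (blo (rot hF)).1.1 * (bup _).1.1
        rw [diag3_val, blo_val, rot_val, bup_val, dia_val]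
        ext i j
        fin_cases i <;> fin_cases j <;> simp <;> grind
      · rw [show (m₂ * blo (rot hF))⁻¹ * A (blo d) * (m₂ * blo (rot hF)) =
          (blo (rot hF))⁻¹ * (m₂⁻¹ * A (blo d) * m₂) * blo (rot hF) by group, hm₂, mul_assoc, inv_mul_eq_iff_eq_mul]
        refine ext3 hF ?_
        show (diag3 hF _ _).1.1 * (blo (rot hF)).1.1 = (blo (rot hF)).1.1 * (blo _).1.1
        rw [diag3_val, blo_val, rot_val, blo_val, dia_val]
        ext i j
        fin_cases i <;> fin_cases j <;> simp <;> grind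
  -- the involutions
  let A' : Cfsg.SU 3 F 2 →* Cfsg.SU 3 F 2 := (MulAut.conj m⁻¹).toMonoidHom.comp A
  have hA' : ∀ x, A' x = m⁻¹ * A x * m := fun x => by show m⁻¹ * A x * m⁻¹⁻¹ = _; rw [inv_inv]
  have hA'i : Function.Injective A' := (MulAut.conj m⁻¹).injective.comp hA
  have hrd : rot hF * d * rot hF = d * d := by
    rw [hd]
    refine Subtype.ext (Subtype.ext ?_)
    show (rot hF).1.1 * (dia hF _ _).1.1 * (rot hF).1.1 = (dia hF _ _).1.1 * (dia hF _ _).1.1
    rw [rot_val, dia_val]
    ext i j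
    fin_cases i <;> fin_cases j <;> simp <;> grind
  have hrr : rot hF * rot hF = (1 : Cfsg.SU 2 F 2) := Subtype.ext (Subtype.ext (by
    show (rot hF).1.1 * (rot hF).1.1 = _
    rw [rot_val]
    ext i j
    fin_cases i <;> fin_cases j <;> simp))
  have hfixr : ∀ (ι : Cfsg.SU 2 F 2 →* Cfsg.SU 3 F 2) (k : Fin 3), A' (ι d) = ι (dia hF e he) →
      (∀ z, act (ι z) (std k) = std k) →
      (∀ v, act (ι (dia hF e he * dia hF e he)) v = v → v = v k • std k) → act (A' (ι (rot hF))) (std k) = std k := by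
    intro ι k h1 h2 h3
    obtain ⟨r, hr⟩ : ∃ r, r = A' (ι (rot hF)) := ⟨_, rfl⟩
    rw [← hr]
    have e1 : r * ι (dia hF e he) * r = ι (dia hF e he * dia hF e he) := by
      rw [hr, ← h1, ← map_mul, ← map_mul, ← map_mul, ← map_mul, hrd, map_mul, map_mul, h1, ← map_mul]
    have e2 : r * r = 1 := by rw [hr, ← map_mul, ← map_mul, hrr, map_one, map_one]
    have e3 : act (ι (dia hF e he * dia hF e he)) (act r (std k)) = act r (std k) := by
      rw [← e1, act_mul, ← act_mul r r, e2, act_one, act_mul, h2]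
    have e4 := h3 _ e3
    obtain ⟨c, hc⟩ : ∃ c, c = act r (std k) k := ⟨_, rfl⟩
    rw [← hc] at e4
    have e5 : (std k : Fin 3 → F) = (c * c) • std k := by
      conv_lhs => rw [← act_one (F := F) (q := 2) (std k), ← e2, act_mul, e4]
      rw [act, Matrix.mulVec_smul]
      show c • act r (std k) = _
      rw [e4, smul_smul]
    have e6 := congrFun e5 k
    simp [std] at e6
    have hc1 : c = 1 := by
      linear_combination cube_eq_one hF (left_ne_zero_of_mul_eq_one e6.symm) + c * e6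
    rw [e4, hc1, one_smul]
  have he2 : ((dia hF e he * dia hF e he : Cfsg.SU 2 F 2)).1.1 = !![e * e, 0; 0, e] := by
    show (dia hF e he).1.1 * (dia hF e he).1.1 = _
    rw [dia_val]
    ext i j
    fin_cases i <;> fin_cases j <;> simp
    linear_combination e * he
  have hee : e * e ≠ 1 := fun h => he1 (by linear_combination he - e * h)
  have hinB : ∀ z, ∃ y, bup y = A' (bup z) := fun z => by
    have hr := hfixr bup 2 ((hA' _).trans hmu) (fun z => blkAt_fix _ _ (Or.inr (by simp))) (fun v hv => by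
      have k0 := congrFun hv 0
      have k1 := congrFun hv 1
      simp [act, bup_val, dia_val, Matrix.mulVec, dotProduct, Fin.sum_univ_three] at k0 k1
      funext i
      fin_cases i
      · have := (mul_eq_zero.1 (show (e * e - 1) * v 0 = 0 by linear_combination k0)).resolve_left
          (sub_ne_zero.2 hee)
        simp [std, this]
      · have := (mul_eq_zero.1 (show (e - 1) * v 1 = 0 by linear_combination k1 - (e * v 1) * he)).resolve_left
          (sub_ne_zero.2 he1)
        simp [std, this]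
      · simp [std])
    obtain ⟨y, hy⟩ := exists_bup hF hr
    have hdia : ∀ (a : F) (ha : a * a ^ 2 = 1), ∃ y, bup y = A' (bup (dia hF a ha)) := by
      intro a ha
      rcases four_cases hF (om_eq hF) a with rfl | rfl | rfl | rfl
      · simp at ha
      · refine ⟨1, ?_⟩
        rw [map_one, show dia hF (1 : F) ha = 1 from Subtype.ext (Subtype.ext (by
          rw [dia_val]
          ext i j
          fin_cases i <;> fin_cases j <;> simp)), map_one, map_one]
      · exact ⟨dia hF e he, by rw [← hd, hA', hmu]⟩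
      · refine ⟨dia hF e he * dia hF e he, ?_⟩
        rw [show dia hF (om hF * om hF) ha = d * d from Subtype.ext (Subtype.ext (by
          show _ = d.1.1 * d.1.1
          rw [hd, dia_val, dia_val]
          ext i j
          fin_cases i <;> fin_cases j <;> simp [mul_pow])), map_mul, map_mul, map_mul, hA', hmu]
    obtain ⟨a, ha, rfl | rfl⟩ := su2_cases hF z
    · exact hdia a ha
    · obtain ⟨y', hy'⟩ := hdia a ha
      exact ⟨y' * y, by rw [map_mul, map_mul, map_mul, hy, hy']⟩
  have hinL : ∀ z, ∃ y, blo y = A' (blo z) := fun z => by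
    have hr := hfixr blo 0 ((hA' _).trans hml) (fun z => blkAt_fix _ _ (Or.inl (by simp))) (fun v hv => by
      have k1 := congrFun hv 1
      have k2 := congrFun hv 2
      simp [act, blo_val, dia_val, Matrix.mulVec, dotProduct, Fin.sum_univ_three] at k1 k2
      funext i
      fin_cases i
      · simp [std]
      · have := (mul_eq_zero.1 (show (e * e - 1) * v 1 = 0 by linear_combination k1)).resolve_left
          (sub_ne_zero.2 hee)
        simp [std, this]
      · have := (mul_eq_zero.1 (show (e - 1) * v 2 = 0 by linear_combination k2 - (e * v 2) * he)).resolve_left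
          (sub_ne_zero.2 he1)
        simp [std, this])
    obtain ⟨y, hy⟩ := exists_blo hF hr
    have hdia : ∀ (a : F) (ha : a * a ^ 2 = 1), ∃ y, blo y = A' (blo (dia hF a ha)) := by
      intro a ha
      rcases four_cases hF (om_eq hF) a with rfl | rfl | rfl | rfl
      · simp at ha
      · refine ⟨1, ?_⟩
        rw [map_one, show dia hF (1 : F) ha = 1 from Subtype.ext (Subtype.ext (by
          rw [dia_val]
          ext i j
          fin_cases i <;> fin_cases j <;> simp)), map_one, map_one]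
      · exact ⟨dia hF e he, by rw [← hd, hA', hml]⟩
      · refine ⟨dia hF e he * dia hF e he, ?_⟩
        rw [show dia hF (om hF * om hF) ha = d * d from Subtype.ext (Subtype.ext (by
          show _ = d.1.1 * d.1.1
          rw [hd, dia_val, dia_val]
          ext i j
          fin_cases i <;> fin_cases j <;> simp [mul_pow])), map_mul, map_mul, map_mul, hA', hml]
    obtain ⟨a, ha, rfl | rfl⟩ := su2_cases hF z
    · exact hdia a ha
    · obtain ⟨y', hy'⟩ := hdia a ha
      exact ⟨y' * y, by rw [map_mul, map_mul, map_mul, hy, hy']⟩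
  have bi : Function.Injective (bup : Cfsg.SU 2 F 2 →* _) := blk_injective _
  have li : Function.Injective (blo : Cfsg.SU 2 F 2 →* _) := blk_injective _
  choose f hf using hinB
  choose f' hf' using hinL
  let α₀ : Cfsg.SU 2 F 2 →* Cfsg.SU 2 F 2 := MonoidHom.mk' f fun x y => bi (by
    rw [hf, map_mul bup, map_mul A', map_mul bup, hf, hf])
  let β₀ : Cfsg.SU 2 F 2 →* Cfsg.SU 2 F 2 := MonoidHom.mk' f' fun x y => li (by
    rw [hf', map_mul blo, map_mul A', map_mul blo, hf', hf'])
  have hα₀ : Function.Injective α₀ := fun x y h => bi (hA'i (by rw [← hf, ← hf]; exact congrArg bup h))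
  have hβ₀ : Function.Injective β₀ := fun x y h => li (hA'i (by rw [← hf', ← hf']; exact congrArg blo h))
  refine ⟨m, MulEquiv.ofBijective α₀ ⟨hα₀, Finite.surjective_of_injective hα₀⟩,
    MulEquiv.ofBijective β₀ ⟨hβ₀, Finite.surjective_of_injective hβ₀⟩, fun z => ?_, fun z => ?_, ?_⟩
  · show A (bup z) = m * bup (f z) * m⁻¹
    rw [hf, hA']; group
  · show A (blo z) = m * blo (f' z) * m⁻¹
    rw [hf', hA']; group
  · show f _ = f' _
    rw [← hd]
    have e1 : f d = dia hF e he := bi (by rw [hf, hA', hmu])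
    have e2 : f' d = dia hF e he := li (by rw [hf', hA', hml])
    rw [e1, e2]

end CfsgLib.Phan
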