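import Cfsg.Agent.Lib.Recog.Phan.Two.Four
import Cfsg.Agent.Lib.Recog.Phan.Two.Std

/-!
# A window of four coordinates over the field with four elements
-/

set_option autoImplicit false

namespace CfsgLib.Phan

open CfsgLib.Classical CfsgLib.Classical.Herm CfsgLib.Known.SUBounded

universe u v

variable {F : Type u} [Field F] [Fintype F] (hF : Fintype.card F = 2 ^ 2)
include hF

omit hF in
theorem trace_conj (P y : Cfsg.SU 4 F 2) : Matrix.trace (P * y * P⁻¹).1.1 = Matrix.trace y.1.1 := by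
  show Matrix.trace ((P.1.1 * y.1.1) * (P⁻¹ : Cfsg.SU 4 F 2).1.1) = _
  rw [Matrix.trace_mul_comm, ← Matrix.mul_assoc,
    show (P⁻¹ : Cfsg.SU 4 F 2).1.1 * P.1.1 = ((P⁻¹ * P : Cfsg.SU 4 F 2)).1.1 from rfl, inv_mul_cancel]
  simp

theorem dia_om_scalar {b : F} (hb : b * b ^ 2 = 1) :
    bup (dia hF b hb) * (blo (dia hF b hb))⁻¹ = diag3 hF hb hb := by
  rw [mul_inv_eq_iff_eq_mul]
  refine ext3 hF ?_
  show _ = (diag3 hF hb hb).1.1 * (blo _).1.1
  rw [bup_val, blo_val, dia_val, diag3_val]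
  ext i j
  fin_cases i <;> fin_cases j <;> simp <;> grind

theorem zz_eq : zz hF = bup (dia hF (om hF) (om_norm hF)) * (blo (dia hF (om hF) (om_norm hF)))⁻¹ :=
  (dia_om_scalar hF _).symm

/-- scalar blocks single out the outer vector -/
theorem fix_of_commute_low {b : F} (hb : b * b ^ 2 = 1) (hb1 : b ≠ 1) {x : Cfsg.SU 4 F 2}
    (h : Commute (blkAt 0 (show 0 + 3 ≤ 4 by omega) (diag3 hF hb hb)) x) (i : Fin 3) :
    x.1.1 i.castSucc 3 = 0 ∧ x.1.1 3 i.castSucc = 0 := by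
  have e := congrArg (fun k : Cfsg.SU 4 F 2 => k.1.1) h.eq
  change (blkAt 0 _ (diag3 hF hb hb)).1.1 * x.1.1 = x.1.1 * (blkAt 0 _ (diag3 hF hb hb)).1.1 at e
  rw [blk3_zero_val, diag3_val, show ((b * b) ^ 2 : F) = b by linear_combination b * hb] at e
  have f := fun i j => congrFun (congrFun e i) j
  have f1 := f i.castSucc 3
  have f2 := f 3 i.castSucc
  fin_cases i <;> simp [Matrix.mul_apply, Fin.sum_univ_four] at f1 f2 ⊢ <;>
    exact ⟨(mul_eq_zero.1 (show (b - 1) * _ = 0 by linear_combination f1)).resolve_left (sub_ne_zero.2 hb1),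
      (mul_eq_zero.1 (show (b - 1) * _ = 0 by linear_combination -f2)).resolve_left (sub_ne_zero.2 hb1)⟩

theorem fix_of_commute_high {b : F} (hb : b * b ^ 2 = 1) (hb1 : b ≠ 1) {x : Cfsg.SU 4 F 2}
    (h : Commute (blkAt 1 (show 1 + 3 ≤ 4 by omega) (diag3 hF hb hb)) x) (i : Fin 3) :
    x.1.1 i.succ 0 = 0 ∧ x.1.1 0 i.succ = 0 := by
  have e := congrArg (fun k : Cfsg.SU 4 F 2 => k.1.1) h.eq
  change (blkAt 1 _ (diag3 hF hb hb)).1.1 * x.1.1 = x.1.1 * (blkAt 1 _ (diag3 hF hb hb)).1.1 at e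
  rw [blk3_one_val, diag3_val, show ((b * b) ^ 2 : F) = b by linear_combination b * hb] at e
  have f := fun i j => congrFun (congrFun e i) j
  have f1 := f i.succ 0
  have f2 := f 0 i.succ
  fin_cases i <;> simp [Matrix.mul_apply, Fin.sum_univ_four] at f1 f2 ⊢ <;>
    exact ⟨(mul_eq_zero.1 (show (b - 1) * _ = 0 by linear_combination f1)).resolve_left (sub_ne_zero.2 hb1),
      (mul_eq_zero.1 (show (b - 1) * _ = 0 by linear_combination -f2)).resolve_left (sub_ne_zero.2 hb1)⟩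

/-- a family commuting with a scalar block fixes the outer vector -/
theorem hom_low {b : F} (hb : b * b ^ 2 = 1) (hb1 : b ≠ 1) (f : Cfsg.SU 3 F 2 →* Cfsg.SU 4 F 2)
    (h : ∀ x, Commute (blkAt 0 (show 0 + 3 ≤ 4 by omega) (diag3 hF hb hb)) (f x)) (x : Cfsg.SU 3 F 2) :
    ∃ y, blkAt 0 (show 0 + 3 ≤ 4 by omega) y = f x := by
  let χ : Cfsg.SU 3 F 2 →* F :=
    { toFun := fun x => (f x).1.1 3 3
      map_one' := by simp
      map_mul' := fun x y => by
        rw [map_mul]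
        show ((f x).1.1 * (f y).1.1) 3 3 = _
        rw [Matrix.mul_apply, Fin.sum_univ_four]
        have h0 := (fix_of_commute_low hF hb hb1 (h x) 0).2
        have h1 := (fix_of_commute_low hF hb hb1 (h x) 1).2
        have h2 := (fix_of_commute_low hF hb hb1 (h x) 2).2
        simp at h0 h1 h2
        rw [h0, h1, h2]
        ring }
  refine exists_low hF (funext fun i => ?_)
  have h33 : (f x).1.1 3 3 = 1 := hom_four_one hF χ x
  have k0 := (fix_of_commute_low hF hb hb1 (h x) 0).1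
  have k1 := (fix_of_commute_low hF hb hb1 (h x) 1).1
  have k2 := (fix_of_commute_low hF hb hb1 (h x) 2).1
  simp at k0 k1 k2
  fin_cases i <;> simp [act, std, Matrix.mulVec_single, h33, k0, k1, k2]

theorem hom_high {b : F} (hb : b * b ^ 2 = 1) (hb1 : b ≠ 1) (f : Cfsg.SU 3 F 2 →* Cfsg.SU 4 F 2)
    (h : ∀ x, Commute (blkAt 1 (show 1 + 3 ≤ 4 by omega) (diag3 hF hb hb)) (f x)) (x : Cfsg.SU 3 F 2) :
    ∃ y, blkAt 1 (show 1 + 3 ≤ 4 by omega) y = f x := by
  let χ : Cfsg.SU 3 F 2 →* F :=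
    { toFun := fun x => (f x).1.1 0 0
      map_one' := by simp
      map_mul' := fun x y => by
        rw [map_mul]
        show ((f x).1.1 * (f y).1.1) 0 0 = _
        rw [Matrix.mul_apply, Fin.sum_univ_four]
        have h0 := (fix_of_commute_high hF hb hb1 (h x) 0).2
        have h1 := (fix_of_commute_high hF hb hb1 (h x) 1).2
        have h2 := (fix_of_commute_high hF hb hb1 (h x) 2).2
        simp at h0 h1 h2
        rw [h0, h1, h2]
        ring }
  have h00 : (f x).1.1 0 0 = 1 := hom_four_one hF χ x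
  have k0 := (fix_of_commute_high hF hb hb1 (h x) 0).1
  have k1 := (fix_of_commute_high hF hb hb1 (h x) 1).1
  have k2 := (fix_of_commute_high hF hb hb1 (h x) 2).1
  simp at k0 k1 k2
  obtain ⟨y, hy⟩ := exists_emb hF (k := 3) (g := f x) (funext fun i => by
    fin_cases i <;> simp [act, std, Matrix.mulVec_single, h00, k0, k1, k2])
  exact ⟨y, by rw [← emb_eq]; exact hy⟩

theorem ringEquiv_of_om {σ σ' : F ≃+* F} (h : σ (om hF) = σ' (om hF)) : σ = σ' := by
  refine RingEquiv.ext fun x => ?_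
  rcases four_cases hF (om_eq hF) x with rfl | rfl | rfl | rfl
  · rw [map_zero, map_zero]
  · rw [map_one, map_one]
  · exact h
  · rw [map_mul, map_mul, h]

set_option maxHeartbeats 1600000 in
/-- the three blocks of a window in standard position -/
theorem exists_position (Φ₀ Φ₁ : Cfsg.SU 3 F 2 →* Cfsg.SU 4 F 2) (h₀ : Function.Injective Φ₀)
    (h₁ : Function.Injective Φ₁) (glue : ∀ x, Φ₀ (blo x) = Φ₁ (bup x))
    (far : ∀ x y, Commute (Φ₀ (bup x)) (Φ₁ (blo y))) :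
    ∃ (P : Cfsg.SU 4 F 2) (A B : Cfsg.SU 3 F 2 →* Cfsg.SU 3 F 2) (α₀ α₁ α₂ : MulAut (Cfsg.SU 2 F 2)),
      Function.Surjective A ∧ Function.Surjective B ∧
      (∀ x, Φ₀ x = P * blkAt 0 (show 0 + 3 ≤ 4 by omega) (A x) * P⁻¹) ∧
      (∀ x, Φ₁ x = P * blkAt 1 (show 1 + 3 ≤ 4 by omega) (B x) * P⁻¹) ∧
      (∀ z, A (bup z) = bup (α₀ z) ∧ A (blo z) = blo (α₁ z) ∧ B (bup z) = bup (α₁ z) ∧ B (blo z) = blo (α₂ z)) ∧
      α₀ (dia hF (om hF) (om_norm hF)) = α₁ (dia hF (om hF) (om_norm hF)) ∧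
      α₁ (dia hF (om hF) (om_norm hF)) = α₂ (dia hF (om hF) (om_norm hF)) := by
  classical
  have hw := om_ne_one hF
  have h2 := two_eq_zero_four hF
  obtain ⟨a, hae⟩ : ∃ a, a = dia hF (om hF) (om_norm hF) := ⟨_, rfl⟩
  obtain ⟨P₀, A₀, hA₀, hΦ₀⟩ := exists_std_four hF Φ₀ h₀
  obtain ⟨m, α₀, α₁, hα₀, hα₁, hαa⟩ := exists_norm_aut hF A₀ hA₀
  rw [← hae] at hαa
  obtain ⟨P, hP⟩ : ∃ P, P = P₀ * blkAt 0 (show 0 + 3 ≤ 4 by omega) m := ⟨_, rfl⟩
  let A : Cfsg.SU 3 F 2 →* Cfsg.SU 3 F 2 := (MulAut.conj m⁻¹).toMonoidHom.comp A₀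
  have hAi : Function.Injective A := (MulAut.conj m⁻¹).injective.comp hA₀
  have hA' : ∀ x, A x = m⁻¹ * A₀ x * m := fun x => by show m⁻¹ * A₀ x * m⁻¹⁻¹ = _; rw [inv_inv]
  have hAu : ∀ z, A (bup z) = bup (α₀ z) := fun z => by rw [hA', hα₀]; group
  have hAl : ∀ z, A (blo z) = blo (α₁ z) := fun z => by rw [hA', hα₁]; group
  have hΦ₀' : ∀ x, Φ₀ x = P * blkAt 0 (show 0 + 3 ≤ 4 by omega) (A x) * P⁻¹ := fun x => by
    rw [hΦ₀, hP, hA', map_mul, map_mul, map_inv]; group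
  let Ψ : Cfsg.SU 3 F 2 →* Cfsg.SU 4 F 2 := (MulAut.conj P⁻¹).toMonoidHom.comp Φ₁
  have hΨ : ∀ x, Ψ x = P⁻¹ * Φ₁ x * P := fun x => by show P⁻¹ * Φ₁ x * P⁻¹⁻¹ = _; rw [inv_inv]
  have hΨi : Function.Injective Ψ := (MulAut.conj P⁻¹).injective.comp h₁
  have hΨu : ∀ z, Ψ (bup z) = blkAt 0 (show 0 + 3 ≤ 4 by omega) (blo (α₁ z)) := fun z => by
    rw [hΨ, ← glue, hΦ₀', hAl]; group
  obtain ⟨σ₁, l₁, -, hσ₁, -⟩ := semi_two hF α₁
  rw [← hae] at hσ₁
  obtain ⟨e, hee⟩ : ∃ e, e = σ₁ (om hF) := ⟨_, rfl⟩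
  have hen : e * e ^ 2 = 1 := hee ▸ norm_one hF ((map_ne_zero σ₁).2 (om_ne hF))
  have he1 : e ≠ 1 := fun h => hw (σ₁.injective (by rw [← hee, h, map_one]))
  have hαe : α₁ a = dia hF e hen := hσ₁.trans (su2_congr hF _ _ hee.symm rfl)
  -- the far torus
  obtain ⟨d, hd⟩ : ∃ d, d = Ψ (blo a) := ⟨_, rfl⟩
  have hdfar : ∀ z, Commute (blkAt 0 (show 0 + 3 ≤ 4 by omega) (bup z)) d := fun z => by
    obtain ⟨y, rfl⟩ := α₀.surjective z
    have := (far y a).map (MulAut.conj P⁻¹).toMonoidHom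
    rw [hd, ← hAu]
    have e : ∀ x, (MulAut.conj P⁻¹).toMonoidHom (Φ₀ x) = blkAt 0 (show 0 + 3 ≤ 4 by omega) (A x) := fun x => by
      show P⁻¹ * Φ₀ x * P⁻¹⁻¹ = _
      rw [hΦ₀']; group
    rw [e] at this
    exact this
  have hd12 : Commute (blkAt 0 (show 0 + 3 ≤ 4 by omega) (blo (dia hF e hen))) d := by
    rw [← hαe, ← hΨu, hd]
    refine (show Commute (bup a) (blo a) from ext3 hF ?_).map Ψ
    show (bup a).1.1 * (blo a).1.1 = (blo a).1.1 * (bup a).1.1
    rw [bup_val, blo_val, hae, dia_val]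
    ext i j
    fin_cases i <;> fin_cases j <;> simp [mul_comm]
  obtain ⟨M, hM⟩ : ∃ M, M = d.1.1 := ⟨_, rfl⟩
  have em : ∀ {k : Cfsg.SU 4 F 2}, Commute k d → k.1.1 * M = M * k.1.1 := fun {k} h => by
    rw [hM]; exact congrArg (fun k : Cfsg.SU 4 F 2 => k.1.1) h.eq
  have ea := em (hdfar a)
  have er := em (hdfar (rot hF))
  have ee := em hd12
  rw [blk3_zero_val, bup_val, hae, dia_val] at ea
  rw [blk3_zero_val, bup_val, rot_val] at er
  rw [blk3_zero_val, blo_val, dia_val] at ee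
  have off : ∀ {c c' x : F}, c ≠ c' → c * x = x * c' → x = 0 := fun {c c' x} hc h =>
    (mul_eq_zero.1 (show (c - c') * x = 0 by linear_combination h)).resolve_left (sub_ne_zero.2 hc)
  have hw2 : (om hF) ^ 2 ≠ 1 := by rw [pow_two]; exact om_sq_ne_one hF
  have he2 : e ^ 2 ≠ 1 := fun h => he1 (by linear_combination hen - e * h)
  have hwne : om hF ≠ om hF ^ 2 := fun h =>
    hw (mul_left_cancel₀ (om_ne hF) (show om hF * om hF = om hF * 1 by rw [mul_one, ← pow_two, ← h])).symm.symm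
  have fa := fun i j => congrFun (congrFun ea i) j
  have fe := fun i j => congrFun (congrFun ee i) j
  have fr := congrFun (congrFun er 1) 0
  have a01 := fa 0 1
  have a02 := fa 0 2
  have a03 := fa 0 3
  have a10 := fa 1 0
  have a12 := fa 1 2
  have a13 := fa 1 3
  have a20 := fa 2 0
  have a21 := fa 2 1
  have a30 := fa 3 0
  have a31 := fa 3 1
  have b23 := fe 2 3
  have b32 := fe 3 2
  simp [Matrix.mul_apply, Fin.sum_univ_four] at a01 a02 a03 a10 a12 a13 a20 a21 a30 a31 b23 b32 fr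
  have z01 : M 0 1 = 0 := off hwne (by linear_combination a01)
  have z02 : M 0 2 = 0 := off hw (by linear_combination a02)
  have z03 : M 0 3 = 0 := off hw (by linear_combination a03)
  have z10 : M 1 0 = 0 := off hwne.symm (by linear_combination a10)
  have z12 : M 1 2 = 0 := off hw2 (by linear_combination a12)
  have z13 : M 1 3 = 0 := off hw2 (by linear_combination a13)
  have z20 : M 2 0 = 0 := off (Ne.symm hw) (by linear_combination a20)
  have z21 : M 2 1 = 0 := off (Ne.symm hw2) (by linear_combination a21)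
  have z30 : M 3 0 = 0 := off (Ne.symm hw) (by linear_combination a30)
  have z31 : M 3 1 = 0 := off (Ne.symm hw2) (by linear_combination a31)
  have z23 : M 2 3 = 0 := off he2 (by linear_combination b23)
  have z32 : M 3 2 = 0 := off (Ne.symm he2) (by linear_combination b32)
  -- its type
  obtain ⟨Q, B₀, hB₀, hΨQ⟩ := exists_std_four hF Ψ hΨi
  obtain ⟨m₁, β₀, β₁, -, hβ₁, -⟩ := exists_norm_aut hF B₀ hB₀
  have htr : M 0 0 + M 1 1 + M 2 2 + M 3 3 = 1 := by
    have t : Matrix.trace M = M 0 0 + M 1 1 + M 2 2 + M 3 3 := by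
      simp [Matrix.trace, Fin.sum_univ_four]
    rw [← t, hM, hd, hΨQ, trace_conj, hβ₁]
    obtain ⟨τ, -, -, hτ, -⟩ := semi_two hF β₁
    rw [← hae] at hτ
    rw [map_mul, map_mul, map_inv, trace_conj, hτ, blk3_zero_val, blo_val, dia_val]
    obtain ⟨c, hc⟩ : ∃ c, c = τ (om hF) := ⟨_, rfl⟩
    have hcc : c * c + c + 1 = 0 := by rw [hc, ← map_mul, ← map_add, ← map_one τ, ← map_add, om_eq, map_zero]
    rw [← hc]
    simp [Matrix.trace, Fin.sum_univ_four]
    linear_combination hcc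
  have hnz : M.det = 1 := by rw [hM]; exact d.1.2
  have hMd : M = Matrix.diagonal ![M 0 0, M 1 1, M 2 2, M 3 3] := by
    ext i j
    fin_cases i <;> fin_cases j <;> simp [Matrix.diagonal, z01, z02, z03, z10, z12, z13, z20, z21, z30, z31, z23, z32]
  rw [hMd, Matrix.det_diagonal, Fin.prod_univ_four] at hnz
  simp at hnz
  obtain ⟨a₂, ha₂⟩ : ∃ a₂, a₂ = M 2 2 := ⟨_, rfl⟩
  have h01 : M 1 1 = M 0 0 := by linear_combination -fr + 0 * h2
  have hn0 : M 0 0 ≠ 0 := fun h => by rw [h] at hnz; simp at hnz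
  have hn2 : a₂ ≠ 0 := fun h => by rw [← ha₂, h] at hnz; simp at hnz
  have hn3 : M 3 3 ≠ 0 := fun h => by rw [h] at hnz; simp at hnz
  have hsum : a₂ + M 3 3 = 1 := by
    rw [ha₂]
    linear_combination htr - h01 - M 0 0 * h2
  have ha21 : a₂ ≠ 1 := fun h => hn3 (by linear_combination hsum - h)
  have hcyc : a₂ * a₂ + a₂ + 1 = 0 :=
    (mul_eq_zero.1 (show (a₂ - 1) * (a₂ * a₂ + a₂ + 1) = 0 by
      linear_combination cube_eq_one hF hn2)).resolve_left (sub_ne_zero.2 ha21)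
  have h33 : M 3 3 = a₂ ^ 2 := by linear_combination hsum - hcyc + (1 : F) * h2
  have h00 : M 0 0 = 1 := by
    rw [h01, h33, ← ha₂] at hnz
    have hsq : M 0 0 * M 0 0 = 1 := by linear_combination hnz - (M 0 0 * M 0 0) * cube_eq_one hF hn2
    linear_combination cube_eq_one hF hn0 - M 0 0 * hsq
  have ha₂n : a₂ * a₂ ^ 2 = 1 := norm_one hF hn2
  have hdval : d = blkAt 1 (show 1 + 3 ≤ 4 by omega) (blo (dia hF a₂ ha₂n)) := by
    refine Subtype.ext (Subtype.ext ?_)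
    rw [← hM, hMd, blk3_one_val, blo_val, dia_val]
    ext i j
    fin_cases i <;> fin_cases j <;> simp [Matrix.diagonal, h00, h01, h33, ← ha₂]
  -- the first vector is fixed
  have hfix : ∀ x, act (Ψ x) (std 0) = std 0 := by
    obtain ⟨v, hv⟩ : ∃ v, v = act Q (std 3) := ⟨_, rfl⟩
    have hfx : ∀ x, act (Ψ x) v = v := fun x => by
      rw [hΨQ, hv, act_mul, act_mul, act_inv_eq rfl]
      exact congrArg (act Q) (blkAt_fix _ _ (Or.inr (by simp)))
    have e1 := hfx (bup a)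
    rw [hΨu, hαe] at e1
    have e2 := hfx (blo a)
    rw [← hd, hdval] at e2
    have k1 := congrFun e1 1
    have k2 := congrFun e1 2
    have k3 := congrFun e2 3
    simp [act, blk3_zero_val, blk3_one_val, blo_val, dia_val, Matrix.mulVec, dotProduct, Fin.sum_univ_four] at k1 k2 k3
    have v1 : v 1 = 0 := off he1 (by linear_combination k1)
    have v2 : v 2 = 0 := off he2 (by linear_combination k2)
    have v3 : v 3 = 0 := off (show a₂ ^ 2 ≠ 1 from fun h => ha21 (by linear_combination ha₂n - a₂ * h))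
      (by linear_combination k3)
    have hv0 : v = v 0 • std 0 := by
      funext i
      fin_cases i <;> simp [std, v1, v2, v3]
    have hne : v 0 ≠ 0 := fun h => by
      have := act_form hF Q (std 3) (std 3)
      rw [← hv, hv0, h, zero_smul, std_orth, if_pos rfl, map_zero] at this
      exact zero_ne_one this
    intro x
    have := hfx x
    rw [hv0, act, Matrix.mulVec_smul] at this
    exact smul_right_injective _ hne this
  choose B hB using fun x => exists_emb hF (k := 3) (hfix x)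
  let B' : Cfsg.SU 3 F 2 →* Cfsg.SU 3 F 2 := MonoidHom.mk' B fun x y => emb_injective 3 (by
    rw [map_mul (emb 3), hB, hB, hB, map_mul])
  have hB' : ∀ x, emb 3 (B' x) = Ψ x := hB
  have hBi : Function.Injective B' := fun x y h => hΨi (by rw [← hB', ← hB', h])
  have hBu : ∀ z, B' (bup z) = bup (α₁ z) := fun z => emb_injective 3 (by
    rw [hB', hΨu, emb_eq, blkAt_comp, blkAt_comp])
  have hBd : B' (blo a) = blo (dia hF a₂ ha₂n) := emb_injective 3 (by rw [hB', ← hd, hdval, emb_eq])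
  -- the last block
  have hrr : rot hF * rot hF = (1 : Cfsg.SU 2 F 2) := Subtype.ext (Subtype.ext (by
    show (rot hF).1.1 * (rot hF).1.1 = _
    rw [rot_val]
    ext i j
    fin_cases i <;> fin_cases j <;> simp))
  have hra : rot hF * (a * a) = a * rot hF := by
    rw [hae]
    refine Subtype.ext (Subtype.ext ?_)
    show (rot hF).1.1 * ((dia hF _ _).1.1 * (dia hF _ _).1.1) = (dia hF _ _).1.1 * (rot hF).1.1
    rw [rot_val, dia_val]
    have h3 := om_norm hF
    ext i j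
    fin_cases i <;> fin_cases j <;> simp <;> grind
  have hrfix : act (B' (blo (rot hF))) (std 0) = std 0 := by
    obtain ⟨r, hr⟩ : ∃ r, r = B' (blo (rot hF)) := ⟨_, rfl⟩
    rw [← hr]
    have e1 : B' (blo a) * r = r * (B' (blo a) * B' (blo a)) := by
      rw [hr, ← map_mul, ← map_mul, ← map_mul, ← map_mul, ← map_mul, ← map_mul, hra]
    have e2 : act (blo (dia hF a₂ ha₂n)) (act r (std 0)) = act r (std 0) := by
      rw [← hBd, ← act_mul, e1, act_mul, act_mul, hBd, blkAt_fix _ _ (Or.inl (by simp)),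
        blkAt_fix _ _ (Or.inl (by simp))]
    obtain ⟨v, hv⟩ : ∃ v, v = act r (std 0) := ⟨_, rfl⟩
    rw [← hv] at e2 ⊢
    have k1 := congrFun e2 1
    have k2 := congrFun e2 2
    simp [act, blo_val, dia_val, Matrix.mulVec, dotProduct, Fin.sum_univ_three] at k1 k2
    have hv0 : v = v 0 • std 0 := by
      funext i
      fin_cases i
      · simp [std]
      · simp [std, off ha21 (show a₂ * v 1 = v 1 * 1 by linear_combination k1)]
      · simp [std, off (show a₂ ^ 2 ≠ 1 from fun h => ha21 (by linear_combination ha₂n - a₂ * h))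
          (show a₂ ^ 2 * v 2 = v 2 * 1 by linear_combination k2)]
    have e3 : act r v = std 0 := by
      rw [hv, ← act_mul, hr, ← map_mul, ← map_mul, hrr, map_one, map_one, act_one]
    rw [hv0, act, Matrix.mulVec_smul] at e3
    change v 0 • act r (std 0) = std 0 at e3
    rw [← hv, hv0, smul_smul] at e3
    have e4 := congrFun e3 0
    simp [std] at e4
    have h1 : v 0 = 1 := by
      linear_combination cube_eq_one hF (left_ne_zero_of_mul_eq_one e4) - v 0 * e4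
    rw [hv0, h1, one_smul]
  obtain ⟨r₂, hr₂⟩ := exists_blo hF hrfix
  have hrange : ∀ z, ∃ y, blo y = B' (blo z) := by
    have hdia : ∀ (c : F) (hc : c * c ^ 2 = 1), ∃ y, blo y = B' (blo (dia hF c hc)) := by
      intro c hc
      rcases four_cases hF (om_eq hF) c with rfl | rfl | rfl | rfl
      · simp at hc
      · refine ⟨1, ?_⟩
        rw [map_one, show dia hF (1 : F) hc = 1 from Subtype.ext (Subtype.ext (by
          rw [dia_val]
          ext i j
          fin_cases i <;> fin_cases j <;> simp)), map_one, map_one]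
      · exact ⟨_, by rw [← hBd, hae]⟩
      · refine ⟨dia hF a₂ ha₂n * dia hF a₂ ha₂n, ?_⟩
        rw [show dia hF (om hF * om hF) hc = a * a from Subtype.ext (Subtype.ext (by
          show _ = a.1.1 * a.1.1
          rw [hae, dia_val, dia_val]
          ext i j
          fin_cases i <;> fin_cases j <;> simp [mul_pow])), map_mul, map_mul, map_mul, hBd]
    intro z
    obtain ⟨c, hc, rfl | rfl⟩ := su2_cases hF z
    · exact hdia c hc
    · obtain ⟨y, hy⟩ := hdia c hc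
      exact ⟨y * r₂, by rw [map_mul, map_mul, map_mul, hy, hr₂]⟩
  choose f hf using hrange
  have li : Function.Injective (blo : Cfsg.SU 2 F 2 →* _) := blk_injective _
  let γ : Cfsg.SU 2 F 2 →* Cfsg.SU 2 F 2 := MonoidHom.mk' f fun x y => li (by
    rw [hf, map_mul blo, map_mul B', map_mul blo, hf, hf])
  have hγ : Function.Injective γ := fun x y h => li (hBi (by rw [← hf, ← hf]; exact congrArg blo h))
  have hae2 : e = a₂ := by
    have hc := Finite.surjective_of_injective hBi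
    have hcen : B' (zz hF) ∈ Subgroup.center (Cfsg.SU 3 F 2) := Subgroup.mem_center_iff.2 fun y => by
      obtain ⟨y, rfl⟩ := hc y
      rw [← map_mul, ← map_mul, zz_comm]
    have hz : B' (zz hF) = bup (dia hF e hen) * (blo (dia hF a₂ ha₂n))⁻¹ := by
      rw [zz_eq, ← hae, map_mul, map_inv, hBu, hαe, hBd]
    have := congrArg (fun k : Cfsg.SU 3 F 2 => k.1.1) (Subgroup.mem_center_iff.1 hcen (cyc F 2))
    rw [hz, ← map_inv, show (dia hF a₂ ha₂n)⁻¹ = dia hF (a₂ ^ 2) (norm_one hF (pow_ne_zero 2 hn2)) from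
      inv_eq_of_mul_eq_one_right (Subtype.ext (Subtype.ext (by
        show (dia hF _ _).1.1 * (dia hF _ _).1.1 = _
        rw [dia_val, dia_val]
        ext i j
        fin_cases i <;> fin_cases j <;> simp <;> grind)))] at this
    change (cyc F 2).1.1 * ((bup _).1.1 * (blo _).1.1) = ((bup _).1.1 * (blo _).1.1) * (cyc F 2).1.1 at this
    rw [bup_val, blo_val, dia_val, dia_val] at this
    have k := congrFun (congrFun this 0) 2
    simp [cyc] at k
    grind
  refine ⟨P, A, B', α₀, α₁, MulEquiv.ofBijective γ ⟨hγ, Finite.surjective_of_injective hγ⟩,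
    Finite.surjective_of_injective hAi, Finite.surjective_of_injective hBi, hΦ₀', fun x => ?_,
    fun z => ⟨hAu z, hAl z, hBu z, (hf z).symm⟩, ?_, ?_⟩
  · rw [← emb_eq, hB', hΨ]; group
  · rw [← hae]; exact hαa
  · rw [← hae]
    show α₁ a = f a
    refine li ?_
    rw [hf, hBd, hαe]
    exact congrArg blo (su2_congr hF _ _ hae2 rfl)

/-- one window -/
theorem exists_window_two {H : Type v} [Group H] (g : Cfsg.SU 4 F 2 →* H) (hsurj : Function.Surjective g)
    (φ φ' : Cfsg.SU 3 F 2 →* H) (hk : φ.ker ≤ Subgroup.center (Cfsg.SU 3 F 2))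
    (hk' : φ'.ker ≤ Subgroup.center (Cfsg.SU 3 F 2)) (glue : ∀ x, φ (blo x) = φ' (bup x))
    (far : ∀ x y, Commute (φ (bup x)) (φ' (blo y))) :
    ∃ f : Cfsg.SU 4 F 2 →* H, ∀ x, f (blkAt 0 (by omega) x) = φ x ∧ f (blkAt 1 (by omega) x) = φ' x := by
  classical
  obtain ⟨hφ, hφ'⟩ := injective_of_glue hF hk hk' glue far
  have hw := om_ne_one hF
  have hne : ∃ a b : Cfsg.SU 4 F 2, ¬ Commute (g a) (g b) := by
    obtain ⟨a, ha⟩ := hsurj (φ (cyc F 2))
    obtain ⟨b, hb⟩ := hsurj (φ (dd hF))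
    refine ⟨a, b, fun e => ?_⟩
    rw [ha, hb, commute_iff_eq, ← map_mul, ← map_mul] at e
    have := congrArg (fun k : Cfsg.SU 3 F 2 => k.1.1 1 0) (hφ e)
    change ((cyc F 2).1.1 * (dd hF).1.1) 1 0 = ((dd hF).1.1 * (cyc F 2).1.1) 1 0 at this
    rw [dd, diag3_val] at this
    simp [cyc] at this
    exact hw (by linear_combination -this)
  let eq := MulEquiv.ofBijective g ⟨injective_four hF g hne, hsurj⟩
  let Φ₀ : Cfsg.SU 3 F 2 →* Cfsg.SU 4 F 2 := eq.symm.toMonoidHom.comp φ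
  let Φ₁ : Cfsg.SU 3 F 2 →* Cfsg.SU 4 F 2 := eq.symm.toMonoidHom.comp φ'
  have hg₀ : ∀ x, g (Φ₀ x) = φ x := fun x => eq.apply_symm_apply _
  have hg₁ : ∀ x, g (Φ₁ x) = φ' x := fun x => eq.apply_symm_apply _
  obtain ⟨P, A, B, α₀, α₁, α₂, hA, hB, hΦ₀, hΦ₁, hblk, e01, e12⟩ := exists_position hF Φ₀ Φ₁
    (eq.symm.injective.comp hφ) (eq.symm.injective.comp hφ') (fun x => congrArg eq.symm (glue x))
    (fun x y => (far x y).map eq.symm.toMonoidHom)
  obtain ⟨σ, l₀, hl₀, hs₀, hσ₀⟩ := semi_two hF α₀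
  obtain ⟨σ₁, l₁, hl₁, hs₁, hσ₁⟩ := semi_two hF α₁
  obtain ⟨σ₂, l₂, hl₂, hs₂, hσ₂⟩ := semi_two hF α₂
  have hval : ∀ {s s' : F ≃+* F} (x : Cfsg.SU 2 F 2),
      x = dia hF (s (om hF)) (norm_one hF ((map_ne_zero s).2 (om_ne hF))) →
      x = dia hF (s' (om hF)) (norm_one hF ((map_ne_zero s').2 (om_ne hF))) → s = s' := fun {s s'} x h h' => by
    refine ringEquiv_of_om hF ?_
    have := congrArg (fun k : Cfsg.SU 2 F 2 => k.1.1 0 0) (h.symm.trans h')
    simpa [dia_val] using this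
  obtain rfl : σ = σ₁ := hval _ hs₀ (e01.trans hs₁)
  obtain rfl : σ = σ₂ := hval _ hs₁ (e12.trans hs₂)
  obtain ⟨δ, hδ⟩ := exists_delta_n hF σ (n := 4) (d := ![1, l₀, l₀ * l₁, l₀ * l₁ * l₂]) fun i => by
    have m : ∀ a b : F, a * a ^ 2 = 1 → b * b ^ 2 = 1 → a * b * (a * b) ^ 2 = 1 := fun a b ha hb => by
      rw [mul_pow, mul_mul_mul_comm, ha, hb, one_mul]
    fin_cases i
    · simp
    · exact hl₀
    · exact m _ _ hl₀ hl₁
    · exact m _ _ (m _ _ hl₀ hl₁) hl₂
  have hb0 : ∀ z, δ (blkAt 0 (show 0 + 2 ≤ 4 by omega) z) = blkAt 0 (show 0 + 2 ≤ 4 by omega) (α₀ z) := fun z =>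
    hδ 0 _ z (α₀ z) (hσ₀ z).1 (by simp [sh, (hσ₀ z).2])
  have hb1 : ∀ z, δ (blkAt 1 (show 1 + 2 ≤ 4 by omega) z) = blkAt 1 (show 1 + 2 ≤ 4 by omega) (α₁ z) := fun z =>
    hδ 1 _ z (α₁ z) (hσ₁ z).1 (by
      rw [(hσ₁ z).2, show sh 1 (show 1 + 2 ≤ 4 by omega) 0 = (1 : Fin 4) from rfl,
        show sh 1 (show 1 + 2 ≤ 4 by omega) 1 = (2 : Fin 4) from rfl]
      simp
      ring)
  have hb2 : ∀ z, δ (blkAt 2 (show 2 + 2 ≤ 4 by omega) z) = blkAt 2 (show 2 + 2 ≤ 4 by omega) (α₂ z) := fun z =>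
    hδ 2 _ z (α₂ z) (hσ₂ z).1 (by
      rw [(hσ₂ z).2, show sh 2 (show 2 + 2 ≤ 4 by omega) 0 = (2 : Fin 4) from rfl,
        show sh 2 (show 2 + 2 ≤ 4 by omega) 1 = (3 : Fin 4) from rfl]
      simp
      ring)
  let f : Cfsg.SU 4 F 2 →* H := (g.comp (MulAut.conj P).toMonoidHom).comp δ.toMonoidHom
  obtain ⟨c, hce⟩ : ∃ c, c = σ (om hF) := ⟨_, rfl⟩
  have hc : c * c ^ 2 = 1 := hce ▸ norm_one hF ((map_ne_zero σ).2 (om_ne hF))
  have hc1 : c ≠ 1 := fun h => hw (σ.injective (by rw [← hce, h, map_one]))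
  obtain ⟨a, hae⟩ : ∃ a, a = dia hF (om hF) (om_norm hF) := ⟨_, rfl⟩
  have hα : α₀ a = dia hF c hc ∧ α₁ a = dia hF c hc ∧ α₂ a = dia hF c hc := by
    rw [hae]
    exact ⟨hs₀.trans (su2_congr hF _ _ hce.symm rfl), hs₁.trans (su2_congr hF _ _ hce.symm rfl),
      hs₂.trans (su2_congr hF _ _ hce.symm rfl)⟩
  refine ⟨f, fun x => ⟨?_, ?_⟩⟩
  · have he : φ = f.comp (blkAt 0 (show 0 + 3 ≤ 4 by omega)) := by
      refine eq_of_blocks hF hφ ?_ (fun z => ?_) (fun z => ?_)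
      · rintro _ ⟨y, rfl⟩
        obtain ⟨k, hk⟩ := hom_low hF hc hc1 (δ.toMonoidHom.comp (blkAt 0 (show 0 + 3 ≤ 4 by omega))) (fun y => by
          have e : δ (blkAt 0 (show 0 + 3 ≤ 4 by omega) (zz hF)) = blkAt 0 (show 0 + 3 ≤ 4 by omega) (diag3 hF hc hc) := by
            rw [← dia_om_scalar hF hc, zz_eq, ← hae]
            simp only [map_mul, map_inv, blkAt_comp]
            rw [hb0, hb1, hα.1, hα.2.1]
          rw [← e]
          exact ((show Commute (zz hF) y from (zz_comm hF y).symm).map (blkAt 0 _)).map δ.toMonoidHom) y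
        obtain ⟨k', rfl⟩ := hA k
        refine ⟨k', ?_⟩
        rw [← hg₀, hΦ₀]
        show _ = g (P * δ (blkAt 0 _ y) * P⁻¹)
        rw [show δ (blkAt 0 (show 0 + 3 ≤ 4 by omega) y) = blkAt 0 (show 0 + 3 ≤ 4 by omega) (A k') from hk.symm]
      · rw [← hg₀, hΦ₀, (hblk z).1]
        show _ = g (P * δ (blkAt 0 _ (blkAt 0 _ z)) * P⁻¹)
        rw [blkAt_comp, blkAt_comp, hb0]
      · rw [← hg₀, hΦ₀, (hblk z).2.1]
        show _ = g (P * δ (blkAt 0 _ (blkAt 1 _ z)) * P⁻¹)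
        rw [blkAt_comp, blkAt_comp, hb1]
    exact (DFunLike.congr_fun he x).symm
  · have he : φ' = f.comp (blkAt 1 (show 1 + 3 ≤ 4 by omega)) := by
      refine eq_of_blocks hF hφ' ?_ (fun z => ?_) (fun z => ?_)
      · rintro _ ⟨y, rfl⟩
        obtain ⟨k, hk⟩ := hom_high hF hc hc1 (δ.toMonoidHom.comp (blkAt 1 (show 1 + 3 ≤ 4 by omega))) (fun y => by
          have e : δ (blkAt 1 (show 1 + 3 ≤ 4 by omega) (zz hF)) = blkAt 1 (show 1 + 3 ≤ 4 by omega) (diag3 hF hc hc) := by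
            rw [← dia_om_scalar hF hc, zz_eq, ← hae]
            simp only [map_mul, map_inv, blkAt_comp]
            rw [hb1, hb2, hα.2.1, hα.2.2]
          rw [← e]
          exact ((show Commute (zz hF) y from (zz_comm hF y).symm).map (blkAt 1 _)).map δ.toMonoidHom) y
        obtain ⟨k', rfl⟩ := hB k
        refine ⟨k', ?_⟩
        rw [← hg₁, hΦ₁]
        show _ = g (P * δ (blkAt 1 _ y) * P⁻¹)
        rw [show δ (blkAt 1 (show 1 + 3 ≤ 4 by omega) y) = blkAt 1 (show 1 + 3 ≤ 4 by omega) (B k') from hk.symm]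
      · rw [← hg₁, hΦ₁, (hblk z).2.2.1]
        show _ = g (P * δ (blkAt 1 _ (blkAt 0 _ z)) * P⁻¹)
        rw [blkAt_comp, blkAt_comp, hb1]
      · rw [← hg₁, hΦ₁, (hblk z).2.2.2]
        show _ = g (P * δ (blkAt 1 _ (blkAt 1 _ z)) * P⁻¹)
        rw [blkAt_comp, blkAt_comp, hb2]
    exact (DFunLike.congr_fun he x).symm

end CfsgLib.Phan
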